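import Groth.Agent.LC17.HL.Radical
import Groth.Agent.S0596

/-!
Descent of bounding cochains from the completion to a henselian G-ring.
-/

set_option autoImplicit false
set_option backward.isDefEq.respectTransparency.types false

universe u

open IsLocalRing

namespace Groth.Agent.LC17.HL

/-- homomorphisms into algebraically closed fields extend along injective integral maps -/
theorem exists_extension {S : Type u} [CommRing S] {T : Type u} [CommRing T] [Algebra S T]
    [Algebra.IsIntegral S T] (hinj : Function.Injective (algebraMap S T)) {L : Type u} [Field L] [IsAlgClosed L]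
    (ψ : S →+* L) : ∃ η : T →+* L, ∀ s, η (algebraMap S T s) = ψ s := by
  have hP : (RingHom.ker ψ).IsPrime := RingHom.ker_isPrime ψ
  obtain ⟨Q, -, hQ, hQc⟩ := Ideal.exists_ideal_over_prime_of_isIntegral (S := T) (RingHom.ker ψ) ⊥
    (by rw [← RingHom.ker_eq_comap_bot, (RingHom.injective_iff_ker_eq_bot (algebraMap S T)).mp hinj]; exact bot_le)
  haveI := hQ
  haveI := hP
  let P := RingHom.ker ψ
  letI : Algebra (S ⧸ P) (T ⧸ Q) := (Ideal.quotientMap Q (algebraMap S T) hQc.ge).toAlgebra
  letI : Algebra (S ⧸ P) L := (Ideal.Quotient.lift P ψ (fun s hs => hs)).toAlgebra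
  have h1 : Function.Injective (algebraMap (S ⧸ P) (T ⧸ Q)) := by
    rw [injective_iff_map_eq_zero]
    intro x hx
    obtain ⟨s, rfl⟩ := Ideal.Quotient.mk_surjective x
    change Ideal.Quotient.mk Q (algebraMap S T s) = 0 at hx
    rw [Ideal.Quotient.eq_zero_iff_mem] at hx ⊢
    exact hQc.le (Ideal.mem_comap.2 hx)
  have h2 : Function.Injective (algebraMap (S ⧸ P) L) := RingHom.kerLift_injective ψ
  haveI : Module.IsTorsionFree (S ⧸ P) L := Module.isTorsionFree_iff_algebraMap_injective.2 h2
  haveI : Module.IsTorsionFree (S ⧸ P) (T ⧸ Q) := Module.isTorsionFree_iff_algebraMap_injective.2 h1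
  haveI : Algebra.IsIntegral (S ⧸ P) (T ⧸ Q) := ⟨fun x => by
    obtain ⟨t, rfl⟩ := Ideal.Quotient.mk_surjective x
    obtain ⟨q, hq, hqe⟩ := Algebra.IsIntegral.isIntegral (R := S) t
    refine ⟨q.map (Ideal.Quotient.mk P), hq.map _, ?_⟩
    rw [Polynomial.eval₂_map, show (algebraMap (S ⧸ P) (T ⧸ Q)).comp (Ideal.Quotient.mk P) =
      (Ideal.Quotient.mk Q).comp (algebraMap S T) from RingHom.ext fun _ => rfl, ← Polynomial.hom_eval₂, hqe,
      map_zero]⟩
  let e : (T ⧸ Q) →ₐ[S ⧸ P] L := IsAlgClosed.lift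
  exact ⟨e.toRingHom.comp (Ideal.Quotient.mk Q), fun s => e.commutes (Ideal.Quotient.mk P s)⟩

variable {H : Type u} [CommRing H] [HenselianLocalRing H]

/-- finitely generated subalgebras of the completion retract to the ring -/
theorem exists_retraction (hG : CAlg.IsGRing H) (s : Finset (AdicCompletion (maximalIdeal H) H)) :
    ∃ (S : Subalgebra H (AdicCompletion (maximalIdeal H) H)), (↑s : Set (AdicCompletion (maximalIdeal H) H)) ⊆ (S : Set (AdicCompletion (maximalIdeal H) H)) ∧ Nonempty (S →ₐ[H] H) := by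
  classical
  haveI := hG.1
  let n := s.card
  let a : Fin n → AdicCompletion (maximalIdeal H) H := fun j => (s.equivFin.symm j).1
  let ψ : MvPolynomial (Fin n) H →ₐ[H] AdicCompletion (maximalIdeal H) H := MvPolynomial.aeval a
  obtain ⟨G, hG'⟩ : (RingHom.ker ψ).FG := IsNoetherian.noetherian _
  let F : Fin G.card → MvPolynomial (Fin n) H := fun j => (G.equivFin.symm j).1
  have hF : ∀ j, MvPolynomial.eval a (MvPolynomial.map (algebraMap H _) (F j)) = 0 := fun j => by
    rw [MvPolynomial.eval_map, ← MvPolynomial.aeval_def]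
    have : F j ∈ RingHom.ker ψ := hG' ▸ Ideal.subset_span (G.equivFin.symm j).2
    exact this
  obtain ⟨b, hb, -⟩ := Groth.Agent.S0596.result H hG n G.card F a hF 0
  let ε : MvPolynomial (Fin n) H →ₐ[H] H := MvPolynomial.aeval b
  have hker : RingHom.ker ψ ≤ RingHom.ker ε := by
    rw [← hG', Ideal.span_le]
    intro g hg
    obtain ⟨j, hj⟩ : ∃ j, F j = g := ⟨G.equivFin ⟨g, hg⟩, by simp [F]⟩
    rw [← hj]
    exact (MvPolynomial.aeval_def b _).trans ((MvPolynomial.eval₂_id (F j)).trans (hb j))
  refine ⟨ψ.range, fun x hx => ?_, ⟨(Ideal.Quotient.liftₐ (RingHom.ker ψ) ε fun x hx => hker hx).comp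
    (Ideal.quotientKerEquivRange ψ).symm.toAlgHom⟩⟩
  exact ⟨MvPolynomial.X (s.equivFin ⟨x, hx⟩), by simp [ψ, a]⟩

/-- descent of bounding cochains -/
theorem descend [IsDomain H] (hG : CAlg.IsGRing H) {L : Type u} [Field L] [IsAlgClosed L] [Algebra H L]
    (hinj : Function.Injective (algebraMap H L)) {M : Type u} [Field M] [Algebra H M]
    [Algebra (AdicCompletion (maximalIdeal H) H) M] [IsScalarTower H (AdicCompletion (maximalIdeal H) H) M]
    (hinjM : Function.Injective (algebraMap (AdicCompletion (maximalIdeal H) H) M))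
    (hHM : Function.Injective (algebraMap H M)) (fs : List H) (hu : ∀ f ∈ fs, algebraMap H L f ≠ 0) (i : ℤ)
    (c₀ : W (FractionRing H))
    (h : IsBdy (fs.map (algebraMap H (AdicCompletion (maximalIdeal H) H)))
      (Subalgebra.toSubmodule (integralClosure (AdicCompletion (maximalIdeal H) H) M)) i
      (IsFractionRing.lift hHM ∘ c₀)) :
    IsBdy fs (Subalgebra.toSubmodule (integralClosure H L)) i (IsFractionRing.lift hinj ∘ c₀) := by
  classical
  obtain ⟨b, hb1, hb2, hb3⟩ := h
  simp only [List.length_map] at hb1 hb3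
  choose k hk using hb2
  have hk' : ∀ l, IsIntegral (AdicCompletion (maximalIdeal H) H) (algebraMap H M (selProd fs l ^ k l) * b l) := by
    intro l
    have h1 := hk l
    rw [selProd_map, ← map_pow, ← IsScalarTower.algebraMap_apply] at h1
    exact h1
  choose q hq hqe using hk'
  have hfin : {l : List Bool | l.length = fs.length}.Finite := List.finite_length_eq Bool fs.length
  let s : Finset (AdicCompletion (maximalIdeal H) H) := hfin.toFinset.biUnion fun l => (q l).coeffs
  obtain ⟨S, hsS, ⟨χ⟩⟩ := exists_retraction hG s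
  let φS : S →+* M := (algebraMap (AdicCompletion (maximalIdeal H) H) M).comp S.val.toRingHom
  haveI : IsScalarTower H S M := IsScalarTower.of_algebraMap_eq (R := H) (S := S) (A := M) fun x =>
    (IsScalarTower.algebraMap_apply H (AdicCompletion (maximalIdeal H) H) M x).trans rfl
  haveI : Nontrivial (AdicCompletion (maximalIdeal H) H) :=
    (algebraMap (AdicCompletion (maximalIdeal H) H) M).domain_nontrivial
  let T := integralClosure S M
  have hST : Function.Injective (algebraMap S T) := fun x y hxy =>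
    Subtype.ext (hinjM (congrArg Subtype.val hxy))
  obtain ⟨η, hη⟩ := exists_extension hST ((algebraMap H L).comp χ.toRingHom)
  have hηH : ∀ x : H, η (algebraMap H T x) = algebraMap H L x := fun x => by
    rw [IsScalarTower.algebraMap_apply H S T, hη]
    show algebraMap H L (χ (algebraMap H S x)) = _
    rw [AlgHom.commutes]
    rfl
  have hy : ∀ l, algebraMap H M (selProd fs l ^ k l) * b l ∈ T := fun l => by
    by_cases hl : b l = 0
    · rw [hl, mul_zero]; exact zero_mem _
    have hlm : l ∈ hfin.toFinset := hfin.mem_toFinset.2 (hb1 l hl).1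
    obtain ⟨q', hq', -, hqm⟩ := Polynomial.lifts_and_degree_eq_and_monic (f := S.val.toRingHom) (p := q l)
      ((Polynomial.lifts_iff_coeff_lifts _).2 fun j => by
        by_cases hj : (q l).coeff j = 0
        · exact ⟨0, by simp [hj]⟩
        · exact ⟨⟨_, hsS (Finset.mem_biUnion.2 ⟨l, hlm,
            Polynomial.coeff_mem_coeffs hj⟩)⟩, rfl⟩) (hq l)
    refine ⟨q', hqm, ?_⟩
    rw [show algebraMap S M = φS from rfl, ← Polynomial.eval₂_map, hq']
    exact hqe l
  let Mon : Submonoid T := (nonZeroDivisors H).map (algebraMap H T).toMonoidHom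
  have hMon : ∀ t : Mon, IsUnit ((T.val.toRingHom) t.1) := by
    rintro ⟨_, x, hx, rfl⟩
    exact IsUnit.mk0 _ fun h0 => nonZeroDivisors.ne_zero hx (hHM (h0.trans (map_zero _).symm))
  have hMonL : ∀ t : Mon, IsUnit (η t.1) := by
    rintro ⟨_, x, hx, rfl⟩
    refine IsUnit.mk0 _ fun h0 => nonZeroDivisors.ne_zero hx (hinj ?_)
    rw [map_zero, ← hηH]
    exact h0
  let T₁ := Localization Mon
  let ι₁ : T₁ →+* M := IsLocalization.lift hMon
  let η₁ : T₁ →+* L := IsLocalization.lift hMonL
  have hι₁ : Function.Injective ι₁ := by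
    refine (IsLocalization.lift_injective_iff _).2 fun x y => ?_
    refine ⟨fun hxy => congrArg T.val ?_, fun hxy => ?_⟩
    · refine IsLocalization.injective T₁ (M := Mon) ?_ hxy
      rintro _ ⟨x, hx, rfl⟩
      refine mem_nonZeroDivisors_of_ne_zero fun h0 => nonZeroDivisors.ne_zero hx (hHM ?_)
      exact (congrArg Subtype.val h0).trans (map_zero _).symm
    · exact congrArg _ (Subtype.ext hxy)
  have hκu : ∀ x : nonZeroDivisors H, IsUnit ((algebraMap T T₁).comp (algebraMap H T) x) := fun x =>
    IsLocalization.map_units T₁ (⟨algebraMap H T x, x.1, x.2, rfl⟩ : Mon)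
  let κ : FractionRing H →+* T₁ := IsLocalization.lift hκu
  have hικ : ι₁.comp κ = IsFractionRing.lift hHM := by
    refine IsLocalization.ringHom_ext (nonZeroDivisors H) (RingHom.ext fun x => ?_)
    simp only [RingHom.comp_apply, κ, ι₁, IsLocalization.lift_eq, IsFractionRing.lift_algebraMap]
    rfl
  have hηκ : η₁.comp κ = IsFractionRing.lift hinj := by
    refine IsLocalization.ringHom_ext (nonZeroDivisors H) (RingHom.ext fun x => ?_)
    simp only [RingHom.comp_apply, κ, η₁, IsLocalization.lift_eq, IsFractionRing.lift_algebraMap]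
    exact hηH x
  let y : W T := fun l => ⟨algebraMap H M (selProd fs l ^ k l) * b l, hy l⟩
  let den : List Bool → Mon := fun l => ⟨algebraMap H T (selProd fs l ^ k l), selProd fs l ^ k l,
    mem_nonZeroDivisors_of_ne_zero (pow_ne_zero _ fun h0 => selProd_ne_zero fs hu l (by rw [h0, map_zero])), rfl⟩
  let b₁ : W T₁ := fun l => IsLocalization.mk' T₁ (y l) (den l)
  have hιb : ι₁ ∘ b₁ = b := funext fun l => by
    refine (IsLocalization.lift_mk'_spec _ _ _ _).2 ?_
    rfl
  have hδ : δ fs.length b₁ = κ ∘ c₀ := by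
    funext l
    refine hι₁ ?_
    have h1 := congrFun (δ_map ι₁.toAddMonoidHom fs.length b₁) l
    refine h1.symm.trans ?_
    show δ fs.length (ι₁ ∘ b₁) l = ι₁ (κ (c₀ l))
    rw [hιb, hb3, ← RingHom.comp_apply, hικ]
    rfl
  refine ⟨η₁ ∘ b₁, fun l hl => hb1 l fun h0 => hl ?_, fun l => ⟨k l, ?_⟩, ?_⟩
  · have h2 : b₁ l = 0 := hι₁ (by rw [map_zero]; exact (congrFun hιb l).trans h0)
    show η₁ (b₁ l) = 0
    rw [h2, map_zero]
  · have h3 : algebraMap H L (selProd fs l ^ k l) * η₁ (b₁ l) = η (y l) := by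
      have h4 : algebraMap H L (selProd fs l ^ k l) = η₁ (algebraMap T T₁ (den l).1) := by
        simp only [η₁, IsLocalization.lift_eq]
        exact (hηH _).symm
      rw [h4, ← map_mul, IsLocalization.mk'_spec', IsLocalization.lift_eq]
    show algebraMap H L (selProd fs l ^ k l) * η₁ (b₁ l) ∈ integralClosure H L
    rw [h3]
    obtain ⟨p, hp, hpe⟩ : IsIntegral S (y l) := Algebra.IsIntegral.isIntegral _
    refine ⟨p.map χ.toRingHom, hp.map _, ?_⟩
    rw [Polynomial.eval₂_map, show (algebraMap H L).comp χ.toRingHom = η.comp (algebraMap S T) from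
      RingHom.ext fun x => (hη x).symm, ← Polynomial.hom_eval₂, hpe, map_zero]
  · have h5 := δ_map η₁.toAddMonoidHom fs.length b₁
    refine Eq.trans h5 ?_
    funext l
    show η₁ (δ fs.length b₁ l) = _
    rw [hδ]
    show η₁ (κ (c₀ l)) = _
    rw [← RingHom.comp_apply, hηκ]
    rfl

end Groth.Agent.LC17.HL
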