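import Groth.Agent.LC17.HL.CochW
import Groth.Agent.LC16.CechFam

/-!
The extended Čech complex of a module mapped into a field as concrete cochains.
-/

set_option autoImplicit false
set_option backward.isDefEq.respectTransparency.types false

universe u

open CategoryTheory CategoryTheory.Limits

namespace Groth.Agent.LC17.HL

open LC16.CechPairs

variable {R : Type u} [CommRing R] {L : Type u} [Field L] [Algebra R L]

/-- `δ` as a linear map -/
noncomputable def δL (m : ℕ) : W L →ₗ[R] W L where
  toFun := δ m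
  map_add' := δ_add m
  map_smul' a c := by
    have h := δ_map (DistribSMul.toAddMonoidHom L a) m c
    exact h

theorem δL_apply (m : ℕ) (c : W L) : δL (R := R) m c = δ m c := rfl

/-- prefixing -/
def glue : (W L × W L) →ₗ[R] W L where
  toFun xy := fun l => match l with
    | [] => 0
    | false :: l => xy.1 l
    | true :: l => xy.2 l
  map_add' x y := funext fun l => by rcases l with _ | ⟨_ | _, l⟩ <;> simp
  map_smul' a x := funext fun l => by rcases l with _ | ⟨_ | _, l⟩ <;> simp

theorem δ_glue (m : ℕ) (x y : W L) :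
    δ (m + 1) (glue (R := R) (x, y)) = glue (R := R) (δ m x, -x - δ m y) :=
  funext fun l => by rcases l with _ | ⟨_ | _, l⟩ <;> rfl

theorem isUnit_W {f : R} (hf : algebraMap R L f ≠ 0) (x : Submonoid.powers f) :
    IsUnit (algebraMap R (Module.End R (W L)) (x : R)) := by
  obtain ⟨_, k, rfl⟩ := x
  simp only
  rw [map_pow]
  refine IsUnit.pow k ((Module.End.isUnit_iff _).2 ⟨fun a b h => funext fun l => ?_, fun b => ⟨fun l => (algebraMap R L f)⁻¹ * b l, funext fun l => ?_⟩⟩)
  · have h1 := congrFun h l
    simp only [Module.algebraMap_end_apply, Pi.smul_apply, Algebra.smul_def] at h1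
    exact mul_left_cancel₀ hf h1
  · simp only [Module.algebraMap_end_apply, Pi.smul_apply, Algebra.smul_def]
    field_simp

/-- the comparison map -/
noncomputable def ι : ∀ (fs : List R), (∀ f ∈ fs, algebraMap R L f ≠ 0) →
    ∀ (M : ModuleCat.{u} R), (M →ₗ[R] L) → ∀ n : ℤ, ((C fs M).X n : Type u) →ₗ[R] W L
  | [], _, M, j, n => if h : n = 0 then
      LinearMap.single R (fun _ : List Bool => L) [] ∘ₗ j ∘ₗ (nilEquiv M).toLinearMap ∘ₗ
        ((C [] M).XIsoOfEq h).hom.hom else 0
  | f :: fs, hu, M, j, n =>
      glue ∘ₗ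
        LinearMap.prodMap (ι fs (fun g hg => hu g (List.mem_cons_of_mem _ hg)) M j n)
          (LocalizedModule.lift (Submonoid.powers f)
            (ι fs (fun g hg => hu g (List.mem_cons_of_mem _ hg)) M j (n - 1))
            (isUnit_W (hu f (List.mem_cons_self ..)))) ∘ₗ
        (pairs f fs M n (n - 1) (by omega)).toLinearMap

section cons

variable {f : R} {fs : List R} (hu : ∀ g ∈ f :: fs, algebraMap R L g ≠ 0)

/-- the localized part -/
noncomputable abbrev ιl (M : ModuleCat.{u} R) (j : M →ₗ[R] L) (p : ℤ) :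
    LocalizedModule (Submonoid.powers f) ((C fs M).X p) →ₗ[R] W L :=
  LocalizedModule.lift (Submonoid.powers f)
    (ι fs (fun g hg => hu g (List.mem_cons_of_mem _ hg)) M j p) (isUnit_W (hu f (List.mem_cons_self ..)))

theorem ι_cons (M : ModuleCat.{u} R) (j : M →ₗ[R] L) (n p : ℤ) (h : p + 1 = n) (x : (C (f :: fs) M).X n) :
    ι (f :: fs) hu M j n x = glue (R := R)
      (ι fs (fun g hg => hu g (List.mem_cons_of_mem _ hg)) M j n (pairs f fs M n p h x).1,
        ιl hu M j p (pairs f fs M n p h x).2) := by
  obtain rfl : p = n - 1 := by omega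
  rfl

theorem ιl_mk (M : ModuleCat.{u} R) (j : M →ₗ[R] L) (p : ℤ) (a : (C fs M).X p) (s : Submonoid.powers f) :
    (s : R) • ιl hu M j p (LocalizedModule.mk a s) =
      ι fs (fun g hg => hu g (List.mem_cons_of_mem _ hg)) M j p a := by
  rw [← map_smul, LocalizedModule.smul'_mk]
  have : LocalizedModule.mk ((s : R) • a) s = LocalizedModule.mk a (1 : Submonoid.powers f) := by
    rw [← Submonoid.smul_def, LocalizedModule.mk_cancel]
  rw [this]
  exact LinearMap.congr_fun (LocalizedModule.lift_comp (Submonoid.powers f)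
    (ι fs (fun g hg => hu g (List.mem_cons_of_mem _ hg)) M j p) (isUnit_W (hu f (List.mem_cons_self ..)))) a

end cons

theorem ι_nil_ne (hu : ∀ f ∈ ([] : List R), algebraMap R L f ≠ 0) (M : ModuleCat.{u} R) (j : M →ₗ[R] L)
    {n : ℤ} (h : n ≠ 0) : ι [] hu M j n = 0 := by
  rw [ι, dif_neg h]

theorem ι_nil_zero (hu : ∀ f ∈ ([] : List R), algebraMap R L f ≠ 0) (M : ModuleCat.{u} R) (j : M →ₗ[R] L)
    (x : (C [] M).X 0) : ι [] hu M j 0 x = Pi.single [] (j (nilEquiv M x)) := by
  rw [ι, dif_pos rfl]
  simp only [LinearMap.coe_comp, Function.comp_apply, LinearEquiv.coe_coe, LinearMap.coe_single]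
  rfl

theorem ι_d : ∀ (fs : List R) (hu : ∀ f ∈ fs, algebraMap R L f ≠ 0) (M : ModuleCat.{u} R)
    (j : M →ₗ[R] L) (n n' : ℤ) (_ : n + 1 = n') (x : (C fs M).X n),
    ι fs hu M j n' (((C fs M).d n n').hom x) = δ fs.length (ι fs hu M j n x) := by
  intro fs
  induction fs with
  | nil =>
    intro hu M j n n' hn x
    show _ = (0 : W L)
    by_cases h : n = 0
    · rw [ι_nil_ne hu M j (by omega : n' ≠ 0)]
      rfl
    · have := subsingleton_nil M h
      rw [Subsingleton.elim x 0, map_zero, map_zero]
  | cons f fs ih =>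
    intro hu M j n n' hn x
    rw [ι_cons hu M j n' n (by omega), pairs_d f fs M n n' (n - 1) hn (by omega) x,
      ι_cons hu M j n (n - 1) (by omega) x, List.length_cons, δ_glue, ih _ M j n n' hn]
    congr 2
    rw [map_sub, map_neg]
    congr 1
    · congr 1
      exact (one_smul R _).symm.trans (ιl_mk hu M j n _ 1)
    · refine LinearMap.congr_fun (f := ιl hu M j n ∘ₗ IsLocalizedModule.map (Submonoid.powers f)
        (LocalizedModule.mkLinearMap _ _) (LocalizedModule.mkLinearMap _ _) ((C fs M).d (n - 1) n).hom)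
        (g := δL fs.length ∘ₗ ιl hu M j (n - 1)) ?_ _
      refine IsLocalizedModule.ext (Submonoid.powers f) (LocalizedModule.mkLinearMap _ _)
        (isUnit_W (hu f (List.mem_cons_self ..))) (LinearMap.ext fun a => ?_)
      simp only [LinearMap.comp_apply]
      rw [IsLocalizedModule.map_apply]
      simp only [LocalizedModule.mkLinearMap_apply, δL_apply]
      rw [← one_smul R (ιl hu M j n (LocalizedModule.mk _ 1)), ← one_smul R (ιl hu M j (n - 1) (LocalizedModule.mk a 1))]
      exact (ιl_mk hu M j n _ 1).trans ((ih _ M j (n - 1) n (by omega) a).trans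
        (congrArg (δ fs.length) (ιl_mk hu M j (n - 1) a 1).symm))

theorem ι_Cmap : ∀ (fs : List R) (hu : ∀ f ∈ fs, algebraMap R L f ≠ 0) {M M' : ModuleCat.{u} R}
    (g : M ⟶ M') (j : M' →ₗ[R] L) (n : ℤ) (x : (C fs M).X n),
    ι fs hu M' j n (((Cmap fs g).f n).hom x) = ι fs hu M (j ∘ₗ g.hom) n x := by
  intro fs
  induction fs with
  | nil =>
    intro hu M M' g j n x
    by_cases h : n = 0
    · subst h
      rw [ι_nil_zero, ι_nil_zero, LinearMap.comp_apply]
      exact congrArg (fun y => Pi.single (M := fun _ : List Bool => L) [] (j y)) (e0_Cmap [] g x)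
    · rw [ι_nil_ne hu _ _ h, ι_nil_ne hu _ _ h]
      rfl
  | cons f fs ih =>
    intro hu M M' g j n x
    rw [ι_cons hu M' j n (n - 1) (by omega), pairs_Cmap f fs g n (n - 1) (by omega),
      ι_cons hu M (j ∘ₗ g.hom) n (n - 1) (by omega), ih]
    congr 2
    refine LinearMap.congr_fun (f := ιl hu M' j (n - 1) ∘ₗ IsLocalizedModule.map (Submonoid.powers f)
      (LocalizedModule.mkLinearMap _ _) (LocalizedModule.mkLinearMap _ _) ((Cmap fs g).f (n - 1)).hom)
      (g := ιl hu M (j ∘ₗ g.hom) (n - 1)) ?_ _
    refine IsLocalizedModule.ext (Submonoid.powers f) (LocalizedModule.mkLinearMap _ _)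
      (isUnit_W (hu f (List.mem_cons_self ..))) (LinearMap.ext fun a => ?_)
    simp only [LinearMap.comp_apply]
    rw [IsLocalizedModule.map_apply]
    simp only [LocalizedModule.mkLinearMap_apply]
    rw [← one_smul R (ιl hu M' j (n - 1) (LocalizedModule.mk _ 1)),
      ← one_smul R (ιl hu M (j ∘ₗ g.hom) (n - 1) (LocalizedModule.mk a 1))]
    exact (ιl_mk hu M' j (n - 1) _ 1).trans ((ih _ g j (n - 1) a).trans (ιl_mk hu M _ (n - 1) a 1).symm)

theorem ι_spec : ∀ (fs : List R) (hu : ∀ f ∈ fs, algebraMap R L f ≠ 0) (M : ModuleCat.{u} R)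
    (j : M →ₗ[R] L) (n : ℤ),
    (Function.Injective j → Function.Injective (ι fs hu M j n)) ∧
      (∀ x, Supp fs.length n (ι fs hu M j n x) ∧ Mem fs (LinearMap.range j) (ι fs hu M j n x)) ∧
      ∀ c, Supp fs.length n c → Mem fs (LinearMap.range j) c → ∃ x, ι fs hu M j n x = c := by
  classical
  intro fs
  induction fs with
  | nil =>
    intro hu M j n
    by_cases h : n = 0
    · subst h
      refine ⟨fun hj a b hab => (nilEquiv M).injective (hj ?_), fun x => ⟨fun l hl => ?_, fun l => ?_⟩, fun c hs hm => ?_⟩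
      · rw [ι_nil_zero, ι_nil_zero] at hab
        exact Pi.single_injective (M := fun _ : List Bool => L) [] hab
      · rw [ι_nil_zero] at hl
        rcases eq_or_ne l [] with rfl | hne
        · simp
        · exact absurd (Pi.single_eq_of_ne (M := fun _ : List Bool => L) hne _) hl
      · rw [ι_nil_zero]
        refine ⟨0, ?_⟩
        rw [pow_zero, map_one, one_mul]
        rcases eq_or_ne l [] with rfl | hne
        · rw [Pi.single_eq_same]; exact LinearMap.mem_range_self _ _
        · rw [Pi.single_eq_of_ne (M := fun _ : List Bool => L) hne]; exact zero_mem _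
      · obtain ⟨k, hk⟩ := hm []
        simp only [selProd, one_pow, map_one, one_mul] at hk
        obtain ⟨m, hm'⟩ := hk
        refine ⟨(nilEquiv M).symm m, funext fun l => ?_⟩
        rw [ι_nil_zero, LinearEquiv.apply_symm_apply, hm']
        rcases eq_or_ne l [] with rfl | hne
        · rw [Pi.single_eq_same]
        · rw [Pi.single_eq_of_ne (M := fun _ : List Bool => L) hne]
          by_contra hcl
          exact hne (List.length_eq_zero_iff.1 (hs l (Ne.symm hcl)).1)
    · have := subsingleton_nil M h
      refine ⟨fun _ a b _ => Subsingleton.elim a b, fun x => ?_, fun c hs _ => ⟨0, ?_⟩⟩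
      · rw [ι_nil_ne hu M j h]
        exact ⟨fun l hl => absurd rfl hl, mem_zero _ _⟩
      · rw [map_zero]
        funext l
        by_contra hcl
        obtain ⟨h1, h2⟩ := hs l (Ne.symm hcl)
        rw [List.length_eq_zero_iff.1 h1] at h2
        simp at h2
        omega
  | cons f fs ih =>
    intro hu M j n
    have hf := hu f (List.mem_cons_self ..)
    obtain ⟨i1, m1, s1⟩ := ih (fun g hg => hu g (List.mem_cons_of_mem _ hg)) M j n
    obtain ⟨i2, m2, s2⟩ := ih (fun g hg => hu g (List.mem_cons_of_mem _ hg)) M j (n - 1)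
    refine ⟨fun hj x x' hxx => ?_, fun x => ?_, fun c hs hm => ?_⟩
    · rw [ι_cons hu M j n (n - 1) (by omega), ι_cons hu M j n (n - 1) (by omega)] at hxx
      apply (pairs f fs M n (n - 1) (by omega)).injective
      refine Prod.ext (i1 hj (funext fun l => congrFun hxx (false :: l))) ?_
      have h2 : ιl hu M j (n - 1) (pairs f fs M n (n - 1) (by omega) x).2 =
          ιl hu M j (n - 1) (pairs f fs M n (n - 1) (by omega) x').2 := funext fun l => congrFun hxx (true :: l)
      revert h2
      generalize (pairs f fs M n (n - 1) (by omega) x).2 = a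
      generalize (pairs f fs M n (n - 1) (by omega) x').2 = b
      intro h2
      induction a using LocalizedModule.induction_on with | h a s => ?_
      induction b using LocalizedModule.induction_on with | h b t => ?_
      rw [LocalizedModule.mk_eq]
      refine ⟨1, ?_⟩
      rw [one_smul, one_smul]
      refine i2 hj ?_
      rw [Submonoid.smul_def, Submonoid.smul_def, map_smul, map_smul, ← ιl_mk hu M j (n - 1) a s,
        ← ιl_mk hu M j (n - 1) b t, h2, smul_comm]
    · rw [ι_cons hu M j n (n - 1) (by omega)]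
      obtain ⟨hs1, hm1⟩ := m1 (pairs f fs M n (n - 1) (by omega) x).1
      generalize (pairs f fs M n (n - 1) (by omega) x).2 = y
      induction y using LocalizedModule.induction_on with | h a s => ?_
      obtain ⟨hs2, hm2⟩ := m2 a
      obtain ⟨N, hN⟩ := s.2
      have hy : ∀ l, algebraMap R L (f ^ N) * ιl hu M j (n - 1) (LocalizedModule.mk a s) l =
          ι fs (fun g hg => hu g (List.mem_cons_of_mem _ hg)) M j (n - 1) a l := fun l => by
        rw [← ιl_mk hu M j (n - 1) a s, Pi.smul_apply, Algebra.smul_def, ← hN]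
      refine ⟨?_, mem_cons_iff.2 ⟨⟨0, by simp [glue]⟩, hm1, fun l => ?_⟩⟩
      · rintro (_ | ⟨_ | _, l⟩) hl
        · exact absurd rfl hl
        · obtain ⟨h1, h2⟩ := hs1 l hl
          exact ⟨by simp [h1], by simpa using h2⟩
        · have hne : ι fs (fun g hg => hu g (List.mem_cons_of_mem _ hg)) M j (n - 1) a l ≠ 0 := by
            rw [← hy l, map_pow]
            exact mul_ne_zero (pow_ne_zero _ hf) hl
          obtain ⟨h1, h2⟩ := hs2 l hne
          refine ⟨by simp [h1], ?_⟩
          simp only [List.count_cons_self, Nat.cast_add, Nat.cast_one, h2]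
          ring
      · obtain ⟨k, hk⟩ := hm2 l
        refine ⟨k + N, ?_⟩
        show algebraMap R L ((f * selProd fs l) ^ (k + N)) * ιl hu M j (n - 1) (LocalizedModule.mk a s) l ∈ _
        rw [show (f * selProd fs l) ^ (k + N) = (f ^ k * selProd fs l ^ N) * (selProd fs l ^ k * f ^ N) by ring,
          map_mul, mul_assoc, map_mul _ (selProd fs l ^ k), mul_assoc, hy l, ← Algebra.smul_def]
        exact Submodule.smul_mem _ _ hk
    · rw [mem_cons_iff] at hm
      obtain ⟨a, ha⟩ := s1 _ (supp_cons_false hs) hm.2.1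
      choose k hk using hm.2.2
      have hfin : {l : List Bool | l.length = fs.length}.Finite := List.finite_length_eq Bool fs.length
      let N := hfin.toFinset.sup k
      obtain ⟨b, hb⟩ := s2 (f ^ N • fun l => c (true :: l)) (fun l hl => by
          refine supp_cons_true hs l fun h => hl ?_
          rw [Pi.smul_apply, show c (true :: l) = 0 from h, smul_zero]) (fun l => by
        by_cases h : c (true :: l) = 0
        · exact ⟨0, by rw [Pi.smul_apply, h, smul_zero, mul_zero]; exact zero_mem _⟩
        · have hl : k l ≤ N := Finset.le_sup (f := k) (hfin.mem_toFinset.2 (supp_cons_true hs l h).1)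
          refine ⟨N, ?_⟩
          rw [Pi.smul_apply, Algebra.smul_def, ← mul_assoc, ← map_mul, mul_comm (selProd fs l ^ N), ← mul_pow]
          exact mul_pow_mem (hk l) hl)
      refine ⟨(pairs f fs M n (n - 1) (by omega)).symm (a, LocalizedModule.mk b ⟨f ^ N, N, rfl⟩), ?_⟩
      rw [ι_cons hu M j n (n - 1) (by omega), LinearEquiv.apply_symm_apply, ha]
      funext l
      rcases l with _ | ⟨_ | _, l⟩
      · exact hs.eq_zero_of_nil.symm
      · rfl
      · have := congrFun ((ιl_mk hu M j (n - 1) b ⟨f ^ N, N, rfl⟩).trans hb) l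
        rw [Pi.smul_apply, Pi.smul_apply, Algebra.smul_def, Algebra.smul_def] at this
        exact mul_left_cancel₀ (by rw [map_pow]; exact pow_ne_zero _ hf) this

end Groth.Agent.LC17.HL
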