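import Groth.Agent.LC17.HL.Radical

/-!
The localization of the integral closure at a maximal ideal, and gluing of bounding cochains.
-/

set_option autoImplicit false
set_option backward.isDefEq.respectTransparency.types false

universe u

open IsLocalRing

namespace Groth.Agent.LC17.HL

variable {B : Type u} [CommRing B] {L : Type u} [Field L] [Algebra B L]

/-- the elements of `L` with a denominator outside `n` -/
def locCl (n : Ideal (integralClosure B L)) [n.IsPrime] {C : Type u} [CommRing C] [Algebra C L]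
    (hC : ∀ x : C, ∃ s : integralClosure B L, s ∉ n ∧ (s : L) * algebraMap C L x ∈ integralClosure B L) :
    Subalgebra C L where
  carrier := {x | ∃ s : integralClosure B L, s ∉ n ∧ (s : L) * x ∈ integralClosure B L}
  mul_mem' := by
    rintro x y ⟨s, hs, hx⟩ ⟨t, ht, hy⟩
    refine ⟨s * t, fun h => (Ideal.IsPrime.mem_or_mem ‹_› h).elim hs ht, ?_⟩
    have := mul_mem hx hy
    rw [MulMemClass.coe_mul]
    convert this using 1
    ring
  add_mem' := by
    rintro x y ⟨s, hs, hx⟩ ⟨t, ht, hy⟩
    refine ⟨s * t, fun h => (Ideal.IsPrime.mem_or_mem ‹_› h).elim hs ht, ?_⟩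
    have := add_mem (mul_mem t.2 hx) (mul_mem s.2 hy)
    rw [MulMemClass.coe_mul]
    convert this using 1
    ring
  algebraMap_mem' := hC

variable (n : Ideal (integralClosure B L)) [hn : n.IsPrime] {C : Type u} [CommRing C] [Algebra C L]
  (hC : ∀ x : C, ∃ s : integralClosure B L, s ∉ n ∧ (s : L) * algebraMap C L x ∈ integralClosure B L)

theorem coe_mem_locCl (a : integralClosure B L) : (a : L) ∈ locCl n hC :=
  ⟨1, fun h => hn.ne_top ((Ideal.eq_top_iff_one n).2 h), by simp⟩

theorem inv_mem_locCl {s : integralClosure B L} (hs : s ∉ n) : (s : L)⁻¹ ∈ locCl n hC :=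
  ⟨s, hs, by
    have : (s : L) ≠ 0 := fun h => hs (by rw [show s = 0 from Subtype.ext h]; exact n.zero_mem)
    rw [mul_inv_cancel₀ this]
    exact one_mem _⟩

theorem isUnit_iff_locCl (x : locCl n hC) {s a : integralClosure B L} (hs : s ∉ n)
    (h : (s : L) * x = a) : IsUnit x ↔ a ∉ n := by
  constructor
  · intro hu ha
    obtain ⟨y, hy⟩ := hu.exists_right_inv
    obtain ⟨t, ht, hty⟩ := y.2
    have : (a : integralClosure B L) * ⟨(t : L) * y, hty⟩ = s * t := Subtype.ext (by
      have hxy : (x : L) * y = 1 := congrArg Subtype.val hy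
      simp only [MulMemClass.coe_mul, ← h]
      linear_combination (s : L) * (t : L) * hxy)
    exact (hn.mem_or_mem (this ▸ n.mul_mem_right _ ha)).elim hs ht
  · intro ha
    have hs0 : (s : L) ≠ 0 := fun h0 => hs (by rw [show s = 0 from Subtype.ext h0]; exact n.zero_mem)
    have ha0 : (a : L) ≠ 0 := fun h0 => ha (by rw [show a = 0 from Subtype.ext h0]; exact n.zero_mem)
    refine IsUnit.of_mul_eq_one (⟨(s : L) * (a : L)⁻¹, mul_mem (coe_mem_locCl n hC s) (inv_mem_locCl n hC ha)⟩)
      (Subtype.ext ?_)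
    show (x : L) * ((s : L) * (a : L)⁻¹) = 1
    rw [← mul_assoc, mul_comm (x : L), h, mul_inv_cancel₀ ha0]

theorem mem_nonunits_locCl (x : locCl n hC) :
    x ∈ nonunits (locCl n hC) ↔ ∃ s a : integralClosure B L, s ∉ n ∧ a ∈ n ∧ (s : L) * x = a := by
  obtain ⟨s, hs, hx⟩ := x.2
  constructor
  · intro h
    refine ⟨s, ⟨_, hx⟩, hs, ?_, rfl⟩
    by_contra ha
    exact h ((isUnit_iff_locCl n hC x (a := ⟨_, hx⟩) hs rfl).2 ha)
  · rintro ⟨s', a, hs', ha, h⟩ hu
    exact (isUnit_iff_locCl n hC x hs' h).1 hu ha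

theorem isLocalRing_locCl : IsLocalRing (locCl n hC) := by
  refine IsLocalRing.of_nonunits_add fun x y hx hy => ?_
  rw [mem_nonunits_locCl] at hx hy ⊢
  obtain ⟨s, a, hs, ha, h⟩ := hx
  obtain ⟨t, b, ht, hb, h'⟩ := hy
  refine ⟨s * t, t * a + s * b, fun h => (hn.mem_or_mem h).elim hs ht,
    n.add_mem (n.mul_mem_left _ ha) (n.mul_mem_left _ hb), ?_⟩
  simp only [MulMemClass.coe_mul, AddMemClass.coe_add, ← h, ← h']
  ring

/-- the integral closure is integrally closed in `L`, hence so is its localization -/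
theorem mem_of_isIntegral_locCl (x : L) (hx : IsIntegral (locCl n hC) x) : x ∈ locCl n hC := by
  classical
  obtain ⟨q, hq, hqe⟩ := hx
  choose s hs hsq using fun j => (q.coeff j).2
  let t : integralClosure B L := ∏ j ∈ Finset.range (q.natDegree + 1), s j
  have ht : t ∉ n := fun h => by
    obtain ⟨j, -, hj⟩ := (Ideal.IsPrime.prod_mem_iff (p := n)).1 h
    exact hs j hj
  let f : locCl n hC →+* L := (locCl n hC).val.toRingHom
  have hcoe : ∀ j, j ≤ q.natDegree → (t : L) * f (q.coeff j) ∈ integralClosure B L := fun j hj => by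
    have : t = (∏ i ∈ (Finset.range (q.natDegree + 1)).erase j, s i) * s j :=
      (Finset.prod_erase_mul _ _ (Finset.mem_range.2 (Nat.lt_succ_of_le hj))).symm
    rw [this, MulMemClass.coe_mul, mul_assoc]
    exact mul_mem (SetLike.coe_mem _) (hsq j)
  have hint : IsIntegral (integralClosure B L) ((t : L) * x) := by
    have h1 : (q.map f).Monic := hq.map _
    refine (Polynomial.lifts_and_degree_eq_and_monic (f := algebraMap (integralClosure B L) L)
      (p := (q.map f).scaleRoots (t : L)) ((Polynomial.lifts_iff_coeff_lifts _).2 fun j => ?_)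
      (Polynomial.monic_scaleRoots_iff _ |>.2 h1)).elim fun r hr => ⟨r, hr.2.2, ?_⟩
    · rw [Polynomial.coeff_scaleRoots, Polynomial.coeff_map, hq.natDegree_map f]
      by_cases hj : j < q.natDegree
      · obtain ⟨e, he⟩ := Nat.exists_eq_add_of_lt hj
        rw [he, show j + e + 1 - j = e + 1 by omega, pow_succ, mul_comm ((t : L) ^ e), ← mul_assoc, mul_comm (f _)]
        exact ⟨⟨_, mul_mem (hcoe j hj.le) (pow_mem t.2 e)⟩, rfl⟩
      · rcases Nat.eq_or_lt_of_le (not_lt.1 hj) with h | h
        · rw [← h, Nat.sub_self, pow_zero, mul_one, hq.coeff_natDegree, map_one]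
          exact ⟨1, map_one _⟩
        · rw [Polynomial.coeff_eq_zero_of_natDegree_lt h, map_zero, zero_mul]
          exact ⟨0, map_zero _⟩
    · rw [← Polynomial.eval_map, hr.1, mul_comm]
      rw [← Polynomial.eval₂_id]
      have := Polynomial.scaleRoots_eval₂_mul (p := q.map f) (RingHom.id L) x (t : L)
      rw [RingHom.id_apply] at this
      rw [mul_comm, this, Polynomial.eval₂_map, RingHom.id_comp, show Polynomial.eval₂ f x q = 0 from hqe,
        mul_zero]
  exact ⟨t, ht, isIntegral_trans _ hint⟩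

theorem henselian_locCl [IsAlgClosed L] : HenselianLocalRing (locCl n hC) := by
  haveI := isLocalRing_locCl n hC
  refine { is_henselian := fun f hf a₀ h₀ _ => ?_ }
  let ι : locCl n hC →+* L := (locCl n hC).val.toRingHom
  have hsp : (f.map ι).Splits := IsAlgClosed.splits _
  have hroot : ∀ r ∈ (f.map ι).roots, r ∈ locCl n hC := fun r hr => by
    refine mem_of_isIntegral_locCl n hC r ⟨f, hf, ?_⟩
    have h1 := Polynomial.isRoot_of_mem_roots hr
    rw [Polynomial.IsRoot, Polynomial.eval_map] at h1
    exact h1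
  let rts : Multiset (locCl n hC) := (f.map ι).roots.attach.map fun r => ⟨r.1, hroot r.1 r.2⟩
  have hι : Function.Injective ι := Subtype.val_injective
  have hev : f.eval a₀ = (rts.map fun r => a₀ - r).prod := hι (by
    rw [← Polynomial.eval₂_hom, ← Polynomial.eval_map, hsp.eval_eq_prod_roots,
      (hf.map ι).leadingCoeff, one_mul, map_multiset_prod, Multiset.map_map, Multiset.map_map]
    conv_lhs => rw [← Multiset.attach_map_val (f.map ι).roots, Multiset.map_map]
    rfl)
  rw [hev] at h₀
  obtain ⟨e, he, hem⟩ := (Ideal.IsPrime.multiset_prod_mem_iff_exists_mem (Ideal.IsMaximal.isPrime' _) _).1 h₀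
  obtain ⟨r, hr, rfl⟩ := Multiset.mem_map.1 he
  obtain ⟨r', -, rfl⟩ := Multiset.mem_map.1 hr
  refine ⟨⟨r'.1, hroot r'.1 r'.2⟩, hι ?_, by rw [← neg_sub]; exact Submodule.neg_mem _ hem⟩
  rw [map_zero, ← Polynomial.eval₂_hom, ← Polynomial.eval_map]
  exact Polynomial.isRoot_of_mem_roots r'.2

/-- bounds at all maximal ideals glue -/
theorem isBdy_of_locally (fs : List B) (i : ℤ) (c : W L)
    (h : ∀ n : Ideal (integralClosure B L), n.IsMaximal → ∃ b, Supp fs.length (i - 1) b ∧ δ fs.length b = c ∧
      ∀ l, ∃ (k : ℕ) (s : integralClosure B L), s ∉ n ∧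
        (s : L) * (algebraMap B L (selProd fs l ^ k) * b l) ∈ integralClosure B L) :
    IsBdy fs (Subalgebra.toSubmodule (integralClosure B L)) i c := by
  classical
  set O := integralClosure B L
  have hmul : ∀ (t : L) (b : W L), δ fs.length (fun l => t * b l) = fun l => t * δ fs.length b l := fun t b =>
    δ_map (AddMonoidHom.mulLeft t) fs.length b
  let I : Ideal O :=
    { carrier := {t | IsBdy fs (Subalgebra.toSubmodule O) i (fun l => (t : L) * c l)}
      add_mem' := by
        intro a a' ha ha'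
        simp only [Set.mem_setOf_eq, AddMemClass.coe_add, add_mul] at ha ha' ⊢
        exact ha.add ha'
      zero_mem' := by
        simp only [Set.mem_setOf_eq, ZeroMemClass.coe_zero, zero_mul]
        exact isBdy_zero _ _ _
      smul_mem' := by
        rintro x t ⟨b, hb1, hb2, hb3⟩
        refine ⟨fun l => (x : L) * b l, fun l hl => hb1 l (right_ne_zero_of_mul hl),
          fun l => (hb2 l).imp fun k hk => ?_, ?_⟩
        · show _ ∈ Subalgebra.toSubmodule O
          rw [mul_left_comm]
          exact (mul_mem x.2 hk : _ ∈ O)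
        · rw [hmul, hb3]
          funext l
          simp [mul_assoc] }
  have hI : I = ⊤ := by
    by_contra hne
    obtain ⟨n, hn, hIn⟩ := Ideal.exists_le_maximal I hne
    obtain ⟨b, hb1, hb2, hb3⟩ := h n hn
    choose k s hs hks using hb3
    have hfin : {l : List Bool | l.length = fs.length}.Finite := List.finite_length_eq Bool fs.length
    let t : O := ∏ l ∈ hfin.toFinset, s l
    have htI : t ∈ I := by
      refine ⟨fun l => (t : L) * b l, fun l hl => hb1 l (right_ne_zero_of_mul hl), fun l => ⟨k l, ?_⟩, ?_⟩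
      · show algebraMap B L (selProd fs l ^ k l) * ((t : L) * b l) ∈ Subalgebra.toSubmodule O
        by_cases hl : b l = 0
        · rw [hl, mul_zero, mul_zero]; exact zero_mem _
        have hlm : l ∈ hfin.toFinset := hfin.mem_toFinset.2 (hb1 l hl).1
        have : t = (∏ l' ∈ hfin.toFinset.erase l, s l') * s l := (Finset.prod_erase_mul _ _ hlm).symm
        rw [this, MulMemClass.coe_mul, mul_left_comm, mul_assoc]
        exact (mul_mem (SetLike.coe_mem _) (hks l) : _ ∈ O)
      · rw [hmul, hb2]
    obtain ⟨l, -, hl⟩ := (Ideal.IsPrime.prod_mem_iff (p := n)).1 (hIn htI)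
    exact hs l hl
  have h1 : (1 : O) ∈ I := hI ▸ Submodule.mem_top
  have h2 : IsBdy fs (Subalgebra.toSubmodule O) i (fun l => ((1 : O) : L) * c l) := h1
  simpa using h2

end Groth.Agent.LC17.HL
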