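import Groth.Agent.LC17.HL.CochW

/-!
The equation lemma of Huneke–Lyubeznik on concrete Čech cochains: a class satisfying a monic additive
equation dies in the absolute integral closure.
-/

set_option autoImplicit false

universe u

open Polynomial

namespace Groth.Agent.LC17.HL

theorem δ_δ {L : Type u} [AddCommGroup L] : ∀ (m : ℕ) (c : W L), δ m (δ m c) = 0 := by
  intro m
  induction m with
  | zero => exact fun _ => rfl
  | succ m ih =>
    intro c
    funext l
    rcases l with _ | ⟨_ | _, l⟩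
    · rfl
    · exact congrFun (ih fun l' => c (false :: l')) l
    · let x : W L := fun l' => c (false :: l')
      let y : W L := fun l' => c (true :: l')
      show -(δ m x l) - δ m (fun l' => -c (false :: l') - δ m y l') l = 0
      rw [show (fun l' => -c (false :: l') - δ m y l') = (0 : W L) - x - δ m y from
        funext fun l' => by simp [x], δ_sub, δ_sub, δ_zero, ih]
      simp

variable {A : Type u} [CommRing A] {L : Type u} [Field L] [Algebra A L] (p : ℕ) [Fact p.Prime] [CharP L p]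

/-- the additive polynomial map `u ↦ u^(p^s) - Σ r_j u^(p^j)` -/
noncomputable def gHom (s : ℕ) (r : Fin s → A) : L →+ L where
  toFun u := u ^ p ^ s - ∑ j : Fin s, algebraMap A L (r j) * u ^ p ^ (j : ℕ)
  map_zero' := by
    simp [zero_pow (pow_ne_zero _ (Fact.out : p.Prime).ne_zero)]
  map_add' x y := by
    simp only [add_pow_char_pow, mul_add, Finset.sum_add_distrib]
    ring

theorem gHom_apply (s : ℕ) (r : Fin s → A) (u : L) :
    gHom p s r u = u ^ p ^ s - ∑ j : Fin s, algebraMap A L (r j) * u ^ p ^ (j : ℕ) := rfl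

omit [CharP L p] in
theorem degree_tail_lt {B : Type u} [CommRing B] (s : ℕ) (a : Fin s → B) (z : B) :
    (∑ j : Fin s, C (a j) * X ^ p ^ (j : ℕ) + C z).degree < ((p ^ s : ℕ) : WithBot ℕ) := by
  have hp := (Fact.out : p.Prime)
  refine lt_of_le_of_lt (degree_add_le _ _) (max_lt ?_ ?_)
  · refine lt_of_le_of_lt (degree_sum_le _ _) ((Finset.sup_lt_iff (WithBot.bot_lt_coe _)).2 fun j _ => ?_)
    exact lt_of_le_of_lt (degree_C_mul_X_pow_le _ _)
      (WithBot.coe_lt_coe.2 (Nat.pow_lt_pow_right hp.one_lt j.2))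
  · exact lt_of_le_of_lt degree_C_le (WithBot.coe_lt_coe.2 (pow_pos hp.pos s))

/-- preimages under `gHom` exist, with the same denominators -/
theorem exists_preimage [IsAlgClosed L] (s : ℕ) (r : Fin s → A) {P : A} (hP : algebraMap A L P ≠ 0)
    {e : L} {k : ℕ} (hk : IsIntegral A (algebraMap A L (P ^ k) * e)) :
    ∃ u : L, gHom p s r u = e ∧ IsIntegral A (algebraMap A L (P ^ k) * u) := by
  have hp := (Fact.out : p.Prime)
  have hm : (X ^ p ^ s - (∑ j : Fin s, C (algebraMap A L (r j)) * X ^ p ^ (j : ℕ) + C e)).Monic :=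
    monic_X_pow_sub (degree_tail_lt p s _ e)
  obtain ⟨u, hu⟩ : ∃ u : L,
      (X ^ p ^ s - (∑ j : Fin s, C (algebraMap A L (r j)) * X ^ p ^ (j : ℕ) + C e)).IsRoot u := by
    refine IsAlgClosed.exists_root _ ?_
    have hlt := degree_tail_lt p s (fun j => algebraMap A L (r j)) e
    rw [degree_sub_eq_left_of_degree_lt (by rwa [degree_X_pow]), degree_X_pow]
    exact_mod_cast (pow_pos hp.pos s).ne'
  simp only [IsRoot, eval_sub, eval_add, eval_pow, eval_X, eval_finsetSum, eval_mul, eval_C] at hu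
  have hge : gHom p s r u = e := by rw [gHom_apply]; linear_combination hu
  refine ⟨u, hge, ?_⟩
  let O := integralClosure A L
  have hpj : ∀ j : Fin s, p ^ (j : ℕ) ≤ p ^ s := fun j => Nat.pow_le_pow_right hp.pos j.2.le
  let a : Fin s → O := fun j => algebraMap A O (r j * P ^ (k * (p ^ s - p ^ (j : ℕ))))
  let z : O := algebraMap A O (P ^ (k * (p ^ s - 1))) * ⟨algebraMap A L (P ^ k) * e, hk⟩
  refine isIntegral_trans (A := O) _ ⟨X ^ p ^ s - (∑ j : Fin s, C (a j) * X ^ p ^ (j : ℕ) + C z),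
    monic_X_pow_sub (degree_tail_lt p s a z), ?_⟩
  simp only [eval₂_sub, eval₂_add, eval₂_pow, eval₂_X, eval₂_finsetSum, eval₂_mul, eval₂_C, a, z,
    map_mul, ← IsScalarTower.algebraMap_apply A O L]
  show _ - (_ + algebraMap A L (P ^ (k * (p ^ s - 1))) * (algebraMap A L (P ^ k) * e)) = 0
  set Q := algebraMap A L P
  have h1 : ∀ j : Fin s, algebraMap A L (P ^ (k * (p ^ s - p ^ (j : ℕ)))) * (algebraMap A L (P ^ k) * u) ^ p ^ (j : ℕ) =
      algebraMap A L (P ^ k) ^ p ^ s * u ^ p ^ (j : ℕ) := fun j => by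
    rw [mul_pow, ← mul_assoc, pow_mul, map_pow, ← pow_add, Nat.sub_add_cancel (hpj j)]
  have h2 : algebraMap A L (P ^ (k * (p ^ s - 1))) * (algebraMap A L (P ^ k) * e) =
      algebraMap A L (P ^ k) ^ p ^ s * e := by
    rw [← mul_assoc, pow_mul, map_pow, ← pow_succ, Nat.sub_add_cancel (Nat.one_le_pow _ _ hp.pos)]
  simp only [mul_assoc, h1, h2]
  rw [mul_pow, Finset.sum_congr rfl fun j _ => show algebraMap A L (r j) *
      (algebraMap A L (P ^ k) ^ p ^ s * u ^ p ^ (j : ℕ)) =
      algebraMap A L (P ^ k) ^ p ^ s * (algebraMap A L (r j) * u ^ p ^ (j : ℕ)) from mul_left_comm _ _ _,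
    ← Finset.mul_sum]
  rw [gHom_apply] at hge
  linear_combination (algebraMap A L (P ^ k) ^ p ^ s) * hge

theorem selProd_ne_zero : ∀ (fs : List A), (∀ f ∈ fs, algebraMap A L f ≠ 0) → ∀ l,
    algebraMap A L (selProd fs l) ≠ 0
  | [], _, _ => by simp [selProd]
  | _ :: _, _, [] => by simp [selProd]
  | f :: fs, h, true :: l => by
      simp only [selProd, map_mul]
      exact mul_ne_zero (h f (List.mem_cons_self ..)) (selProd_ne_zero fs (fun g hg => h g (List.mem_cons_of_mem _ hg)) l)
  | f :: fs, h, false :: l => by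
      simp only [selProd]
      exact selProd_ne_zero fs (fun g hg => h g (List.mem_cons_of_mem _ hg)) l

/-- the equation lemma -/
theorem equation [IsAlgClosed L] (fs : List A) (hne : fs ≠ []) (hfs : ∀ f ∈ fs, algebraMap A L f ≠ 0)
    (s : ℕ) (r : Fin s → A) {n : ℤ} {c e : W L} (hc : Supp fs.length n c) (hdc : δ fs.length c = 0)
    (he : Supp fs.length (n - 1) e) (hem : Mem fs (integralClosure A L).toSubmodule e)
    (hge : gHom p s r ∘ c = δ fs.length e) :
    ∃ b : W L, Supp fs.length (n - 1) b ∧ Mem fs (integralClosure A L).toSubmodule b ∧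
      δ fs.length b = c := by
  classical
  have hex : ∀ l, ∃ u : L, gHom p s r u = e l ∧ (∃ k : ℕ, IsIntegral A (algebraMap A L (selProd fs l ^ k) * u)) ∧
      (e l = 0 → u = 0) := fun l => by
    by_cases h0 : e l = 0
    · exact ⟨0, by rw [h0, map_zero], ⟨0, by simpa using isIntegral_zero⟩, fun _ => rfl⟩
    · obtain ⟨k, hk⟩ := hem l
      obtain ⟨u, h1, h2⟩ := exists_preimage p s r (selProd_ne_zero fs hfs l) (hk : IsIntegral A _)
      exact ⟨u, h1, ⟨k, h2⟩, fun h => absurd h h0⟩
  choose u hu hint hu0 using hex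
  have hus : Supp fs.length (n - 1) u := fun l hl => he l fun h => hl (hu0 l h)
  obtain ⟨m, hm⟩ : ∃ m, fs.length = m + 1 := ⟨fs.length - 1, by
    have := List.length_pos_of_ne_nil hne; omega⟩
  let c' : W L := c - δ fs.length u
  have hc's : Supp (m + 1) n c' := by
    intro l hl
    by_cases h : c l = 0
    · have h' : δ fs.length u l ≠ 0 := fun h' => hl (by simp [c', h, h'])
      obtain ⟨e1, e2⟩ := supp_δ fs.length hus l h'
      exact ⟨hm ▸ e1, by rw [e2]; ring⟩
    · exact hm ▸ hc l h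
  have hc'd : δ (m + 1) c' = 0 := by
    rw [← hm, δ_sub, hdc, δ_δ, sub_zero]
  have hc'g : ∀ l, gHom p s r (c' l) = 0 := fun l => by
    show gHom p s r (c l - δ fs.length u l) = 0
    rw [map_sub, sub_eq_zero]
    refine (congrFun hge l).trans (Eq.trans ?_ (congrFun (δ_map (gHom p s r) fs.length u) l))
    rw [show gHom p s r ∘ u = e from funext hu]
  have hroot : ∀ l, IsIntegral A (c' l) := fun l => by
    refine ⟨X ^ p ^ s - (∑ j : Fin s, C (r j) * X ^ p ^ (j : ℕ) + C 0),
      monic_X_pow_sub (degree_tail_lt p s r 0), ?_⟩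
    simp only [map_zero, add_zero, eval₂_sub, eval₂_pow, eval₂_X, eval₂_finsetSum, eval₂_mul, eval₂_C]
    exact hc'g l
  obtain ⟨b, hb1, hb2, hb3⟩ := exists_δ_eq m hc's hc'd
  refine ⟨u + b, ?_, ?_, ?_⟩
  · intro l hl
    by_cases h : u l = 0
    · exact hm ▸ hb1 l fun h' => hl (by simp [h, h'])
    · exact hus l h
  · refine Mem.add (fun l => hint l) fun l => ⟨0, ?_⟩
    rw [pow_zero, map_one, one_mul]
    rcases hb3 l with h | ⟨l', h⟩
    · rw [h]; exact Submodule.zero_mem _
    · rw [h]; exact Submodule.neg_mem _ (hroot l')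
  · rw [δ_add, hm, hb2]
    show δ (m + 1) u + (c - δ fs.length u) = c
    rw [hm]
    abel

end Groth.Agent.LC17.HL
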