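import Groth.Agent.LC17.HL.Bridge
import Groth.Agent.LC17.HL.CochEq

/-!
Čech cohomology classes as concrete cocycles; Frobenius stable finite images die.
-/

set_option autoImplicit false
set_option backward.isDefEq.respectTransparency.types false

universe u

open CategoryTheory CategoryTheory.Limits

namespace Groth.Agent.LC17.HL

open LC16.CechPairs LC16.CechFam

variable {R : Type u} [CommRing R]

/-- cycles as a kernel -/
noncomputable def cycEquiv (K : CochainComplex (ModuleCat.{u} R) ℤ) (q : ℤ) :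
    (K.cycles q : Type u) ≃ₗ[R] LinearMap.ker (K.d q (q + 1)).hom :=
  LinearEquiv.ofBijective
    (LinearMap.codRestrict _ (K.iCycles q).hom fun x => LinearMap.mem_ker.2
      (congrArg (fun ψ : K.cycles q ⟶ K.X (q + 1) => ψ.hom x) (K.iCycles_d q (q + 1))))
    ⟨fun x y hxy => (ModuleCat.mono_iff_injective (K.iCycles q)).1 inferInstance (congrArg Subtype.val hxy),
     fun ⟨x, hx⟩ => by
      let g : ModuleCat.of R R ⟶ K.X q := ModuleCat.ofHom (LinearMap.toSpanSingleton R _ x)
      have hg : g ≫ K.d q (q + 1) = 0 := by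
        ext
        have : (K.d q (q + 1)).hom x = 0 := hx
        simp [g]
        exact this
      refine ⟨(K.liftCycles g (q + 1) (by simp) hg).hom 1, Subtype.ext ?_⟩
      have := congrArg (fun ψ : ModuleCat.of R R ⟶ K.X q => ψ.hom 1) (K.liftCycles_i g (q + 1) (by simp) hg)
      exact this.trans (LinearMap.toSpanSingleton_apply_one R _ x)⟩

/-- the class of a cycle -/
noncomputable def clsL (K : CochainComplex (ModuleCat.{u} R) ℤ) (q : ℤ) :
    LinearMap.ker (K.d q (q + 1)).hom →ₗ[R] (K.homology q : Type u) :=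
  (K.homologyπ q).hom ∘ₗ (cycEquiv K q).symm.toLinearMap

theorem clsL_surjective (K : CochainComplex (ModuleCat.{u} R) ℤ) (q : ℤ) :
    Function.Surjective (clsL K q) :=
  fun y => by
    obtain ⟨c, rfl⟩ := (ModuleCat.epi_iff_surjective (K.homologyπ q)).1 inferInstance y
    exact ⟨cycEquiv K q c, congrArg (K.homologyπ q).hom ((cycEquiv K q).symm_apply_apply c)⟩

theorem cycEquiv_coe (K : CochainComplex (ModuleCat.{u} R) ℤ) (q : ℤ) (c : K.cycles q) :
    (cycEquiv K q c : K.X q) = (K.iCycles q).hom c := rfl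

theorem clsL_eq_zero_iff (K : CochainComplex (ModuleCat.{u} R) ℤ) (p q : ℤ) (hpq : p + 1 = q)
    (z : LinearMap.ker (K.d q (q + 1)).hom) :
    clsL K q z = 0 ↔ ∃ w, (K.d p q).hom w = z.1 := by
  obtain ⟨c, rfl⟩ := (cycEquiv K q).surjective z
  rw [clsL, LinearMap.comp_apply, LinearEquiv.coe_coe, LinearEquiv.symm_apply_apply, cycEquiv_coe]
  have hp : (ComplexShape.up ℤ).prev q = p := by simp; omega
  have hex := ShortComplex.exact_of_g_is_cokernel
    (ShortComplex.mk (K.toCycles p q) (K.homologyπ q) (K.toCycles_comp_homologyπ p q))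
    (K.homologyIsCokernel p q hp)
  rw [ShortComplex.moduleCat_exact_iff] at hex
  have hi : ∀ w, (K.iCycles q).hom ((K.toCycles p q).hom w) = (K.d p q).hom w := fun w =>
    congrArg (fun ψ : K.X p ⟶ K.X q => ψ.hom w) (K.toCycles_i p q)
  constructor
  · intro h
    obtain ⟨w, hw⟩ := hex c h
    exact ⟨w, by rw [← hi]; exact congrArg _ hw⟩
  · rintro ⟨w, hw⟩
    have hc : (K.toCycles p q).hom w = c :=
      (ModuleCat.mono_iff_injective (K.iCycles q)).1 inferInstance (by rw [hi, hw])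
    rw [← hc]
    exact congrArg (fun ψ : K.X p ⟶ K.homology q => ψ.hom w) (K.toCycles_comp_homologyπ p q)

theorem clsL_natural {K K' : CochainComplex (ModuleCat.{u} R) ℤ} (φ : K ⟶ K') (q : ℤ)
    (z : LinearMap.ker (K.d q (q + 1)).hom) (hz : (φ.f q).hom z.1 ∈ LinearMap.ker (K'.d q (q + 1)).hom) :
    (HomologicalComplex.homologyMap φ q).hom (clsL K q z) = clsL K' q ⟨(φ.f q).hom z.1, hz⟩ := by
  obtain ⟨c, rfl⟩ := (cycEquiv K q).surjective z
  have h1 := congrArg (fun ψ => ψ.hom c) (HomologicalComplex.homologyπ_naturality φ q)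
  have h2 := congrArg (fun ψ => ψ.hom c) (HomologicalComplex.cyclesMap_i φ q)
  rw [clsL, clsL, LinearMap.comp_apply, LinearMap.comp_apply, LinearEquiv.coe_coe, LinearEquiv.coe_coe,
    LinearEquiv.symm_apply_apply]
  refine h1.trans (congrArg (K'.homologyπ q).hom ?_)
  rw [LinearEquiv.eq_symm_apply]
  exact Subtype.ext h2

variable {L : Type u} [Field L] [Algebra R L]

/-- cocycles with values in a submodule -/
def IsCoc (fs : List R) (T : Submodule R L) (n : ℤ) (c : W L) : Prop :=
  Supp fs.length n c ∧ Mem fs T c ∧ δ fs.length c = 0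

/-- coboundaries with values in a submodule -/
def IsBdy (fs : List R) (T : Submodule R L) (n : ℤ) (c : W L) : Prop :=
  ∃ b, Supp fs.length (n - 1) b ∧ Mem fs T b ∧ δ fs.length b = c

variable (fs : List R) (hu : ∀ f ∈ fs, algebraMap R L f ≠ 0)

section bridge

variable {M : ModuleCat.{u} R} (j : M →ₗ[R] L) (hj : Function.Injective j) (n : ℤ)
include hu hj

theorem exists_cycle {c : W L} (hc : IsCoc fs (LinearMap.range j) n c) :
    ∃ z : LinearMap.ker ((C fs M).d n (n + 1)).hom, ι fs hu M j n z.1 = c := by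
  obtain ⟨x, hx⟩ := (ι_spec fs hu M j n).2.2 c hc.1 hc.2.1
  refine ⟨⟨x, LinearMap.mem_ker.2 ((ι_spec fs hu M j (n + 1)).1 hj ?_)⟩, hx⟩
  rw [map_zero, ι_d fs hu M j n (n + 1) rfl, hx, hc.2.2]

theorem isCoc_ι (z : LinearMap.ker ((C fs M).d n (n + 1)).hom) :
    IsCoc fs (LinearMap.range j) n (ι fs hu M j n z.1) := by
  refine ⟨((ι_spec fs hu M j n).2.1 z.1).1, ((ι_spec fs hu M j n).2.1 z.1).2, ?_⟩
  rw [← ι_d fs hu M j n (n + 1) rfl, LinearMap.mem_ker.1 z.2, map_zero]

theorem cls_eq_zero_iff (z : LinearMap.ker ((C fs M).d n (n + 1)).hom) :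
    clsL (C fs M) n z = 0 ↔ IsBdy fs (LinearMap.range j) n (ι fs hu M j n z.1) := by
  rw [clsL_eq_zero_iff _ (n - 1) n (by omega)]
  constructor
  · rintro ⟨w, hw⟩
    exact ⟨ι fs hu M j (n - 1) w, ((ι_spec fs hu M j (n - 1)).2.1 w).1,
      ((ι_spec fs hu M j (n - 1)).2.1 w).2, by rw [← ι_d fs hu M j (n - 1) n (by omega), hw]⟩
  · rintro ⟨b, hb1, hb2, hb3⟩
    obtain ⟨w, hw⟩ := (ι_spec fs hu M j (n - 1)).2.2 b hb1 hb2
    exact ⟨w, (ι_spec fs hu M j n).1 hj (by rw [ι_d fs hu M j (n - 1) n (by omega), hw, hb3])⟩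

end bridge

section maps

variable {M M' : ModuleCat.{u} R} (j : M →ₗ[R] L) (hj : Function.Injective j)
  (j' : M' →ₗ[R] L) (hj' : Function.Injective j') (g : M →ₗ[R] M') (hg : j' ∘ₗ g = j) (i : ℕ)
include hu hj hj' hg

theorem Tmap_cls (z : LinearMap.ker ((C fs M).d (i : ℤ) ((i : ℤ) + 1)).hom) :
    ∃ z' : LinearMap.ker ((C fs M').d (i : ℤ) ((i : ℤ) + 1)).hom,
      Tmap fs i g (clsL (C fs M) i z) = clsL (C fs M') i z' ∧
        ι fs hu M' j' i z'.1 = ι fs hu M j i z.1 := by
  have he : ι fs hu M' j' i (((Cmap fs (ModuleCat.ofHom g)).f i).hom z.1) = ι fs hu M j i z.1 := by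
    rw [ι_Cmap fs hu (ModuleCat.ofHom g) j' i z.1]
    simp only [ModuleCat.hom_ofHom, hg]
  have hm : ((Cmap fs (ModuleCat.ofHom g)).f i).hom z.1 ∈ LinearMap.ker ((C fs M').d (i : ℤ) ((i : ℤ) + 1)).hom := by
    refine LinearMap.mem_ker.2 ((ι_spec fs hu M' j' _).1 hj' ?_)
    rw [map_zero, ι_d fs hu M' j' i _ rfl, he]
    exact (isCoc_ι fs hu j hj i z).2.2
  exact ⟨⟨_, hm⟩, clsL_natural _ _ z hm, he⟩

theorem Tmap_eq_zero_iff :
    Tmap fs i g = 0 ↔ ∀ c, IsCoc fs (LinearMap.range j) i c → IsBdy fs (LinearMap.range j') i c := by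
  constructor
  · intro h c hc
    obtain ⟨z, rfl⟩ := exists_cycle fs hu j hj i hc
    obtain ⟨z', h1, h2⟩ := Tmap_cls fs hu j hj j' hj' g hg i z
    rw [← h2, ← cls_eq_zero_iff fs hu j' hj', ← h1, h]
    rfl
  · intro h
    refine LinearMap.ext fun y => ?_
    obtain ⟨z, rfl⟩ := clsL_surjective (C fs M) (i : ℤ) y
    obtain ⟨z', h1, h2⟩ := Tmap_cls fs hu j hj j' hj' g hg i z
    rw [LinearMap.zero_apply, h1, cls_eq_zero_iff fs hu j' hj', h2]
    exact h _ (isCoc_ι fs hu j hj i z)

end maps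

include hu in
theorem subsingleton_iff (T : Submodule R L) (i : ℕ) :
    Subsingleton (LC16.CechFam.T fs i (ModuleCat.of R T) : Type u) ↔
      ∀ c, IsCoc fs T i c → IsBdy fs T i c := by
  have h := Tmap_eq_zero_iff fs hu (M := ModuleCat.of R T) (M' := ModuleCat.of R T) T.subtype
    T.injective_subtype T.subtype T.injective_subtype LinearMap.id (LinearMap.comp_id _) i
  rw [show LinearMap.range (T.subtype : ↥T →ₗ[R] L) = T from T.range_subtype] at h
  rw [← h]
  have hid : ∀ y, Tmap fs i (LinearMap.id : (ModuleCat.of R T) →ₗ[R] (ModuleCat.of R T)) y = y := fun y => by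
    obtain ⟨z, rfl⟩ := clsL_surjective (C fs (ModuleCat.of R T)) (i : ℤ) y
    obtain ⟨z', h1, h2⟩ := Tmap_cls fs hu (M := ModuleCat.of R T) (M' := ModuleCat.of R T) T.subtype
      T.injective_subtype T.subtype T.injective_subtype LinearMap.id (LinearMap.comp_id _) i z
    rw [h1, Subtype.ext ((ι_spec fs hu _ _ _).1 T.injective_subtype h2)]
  constructor
  · intro hs
    exact LinearMap.ext fun y => Subsingleton.elim _ _
  · intro h0
    refine subsingleton_of_forall_eq 0 fun y => ?_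
    rw [← hid y, h0]
    rfl

theorem Mem.pow_prime (p : ℕ) [Fact p.Prime] (T : Subalgebra R L) {c : W L}
    (hc : Mem fs (Subalgebra.toSubmodule T) c) (e : ℕ) :
    Mem fs (Subalgebra.toSubmodule T) (fun l => c l ^ p ^ e) := fun l => by
  obtain ⟨k, hk⟩ := hc l
  refine ⟨k * p ^ e, ?_⟩
  rw [pow_mul, map_pow, ← mul_pow]
  exact pow_mem (show algebraMap R L (selProd fs l ^ k) * c l ∈ T from hk) _

theorem IsCoc.pow_prime (p : ℕ) [Fact p.Prime] [CharP L p] (T : Subalgebra R L) {n : ℤ} {c : W L}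
    (hc : IsCoc fs (Subalgebra.toSubmodule T) n c) (e : ℕ) :
    IsCoc fs (Subalgebra.toSubmodule T) n (fun l => c l ^ p ^ e) := by
  refine ⟨fun l hl => hc.1 l fun h => hl ?_, hc.2.1.pow_prime fs p T e, ?_⟩
  · show c l ^ p ^ e = 0
    rw [h, zero_pow (pow_ne_zero _ (Fact.out : p.Prime).ne_zero)]
  · have h := δ_map (iterateFrobenius L p e).toAddMonoidHom fs.length c
    have h2 : ((iterateFrobenius L p e).toAddMonoidHom : L → L) ∘ c = fun l => c l ^ p ^ e := rfl
    rw [← h2, h, hc.2.2]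
    exact funext fun l => map_zero _

include hu in
/-- classes in a Noetherian Frobenius stable image die in the integral closure -/
theorem kills (hne : fs ≠ []) (p : ℕ) [Fact p.Prime] [CharP L p] [IsAlgClosed L] (T T' : Subalgebra R L)
    (hle : T ≤ T') (hint : Subalgebra.toSubmodule T' ≤ Subalgebra.toSubmodule (integralClosure R L)) (i : ℕ)
    (hN : IsNoetherian R (LinearMap.range (Tmap fs i
      (M := ModuleCat.of R (Subalgebra.toSubmodule T)) (N := ModuleCat.of R (Subalgebra.toSubmodule T'))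
      (Submodule.inclusion (show Subalgebra.toSubmodule T ≤ Subalgebra.toSubmodule T' from hle)))))
    (c : W L) (hc : IsCoc fs (Subalgebra.toSubmodule T) i c) :
    IsBdy fs (Subalgebra.toSubmodule (integralClosure R L)) i c := by
  classical
  let ST := Subalgebra.toSubmodule T
  let ST' := Subalgebra.toSubmodule T'
  let g : (ModuleCat.of R ST) →ₗ[R] (ModuleCat.of R ST') := Submodule.inclusion hle
  set N := LinearMap.range (Tmap fs i g)
  have hc' : ∀ e : ℕ, ∃ z' : LinearMap.ker ((C fs (ModuleCat.of R ST')).d (i : ℤ) ((i : ℤ) + 1)).hom,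
      clsL (C fs (ModuleCat.of R ST')) i z' ∈ N ∧
        ι fs hu (ModuleCat.of R ST') ST'.subtype i z'.1 = fun l => c l ^ p ^ e := fun e => by
    obtain ⟨z, hz⟩ := exists_cycle fs hu (M := ModuleCat.of R ST) ST.subtype ST.injective_subtype i
      (c := fun l => c l ^ p ^ e) (by rw [Submodule.range_subtype]; exact hc.pow_prime fs p T e)
    obtain ⟨z', h1, h2⟩ := Tmap_cls fs hu (M := ModuleCat.of R ST) (M' := ModuleCat.of R ST') ST.subtype
      ST.injective_subtype ST'.subtype ST'.injective_subtype g rfl i z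
    exact ⟨z', ⟨_, h1⟩, h2.trans hz⟩
  choose z hzN hz using hc'
  let y : ℕ → N := fun e => ⟨_, hzN e⟩
  let S : ℕ →o Submodule R N := ⟨fun s => Submodule.span R (y '' Set.Iio s),
    fun a b hab => Submodule.span_mono (Set.image_mono (Set.Iio_subset_Iio hab))⟩
  obtain ⟨s, hs⟩ := monotone_stabilizes_iff_noetherian.2 hN S
  have hys : y s ∈ Submodule.span R (Set.range fun j : Fin s => y j) := by
    have h1 : y s ∈ S (s + 1) := Submodule.subset_span ⟨s, Nat.lt_succ_self s, rfl⟩
    rw [← hs (s + 1) (Nat.le_succ s)] at h1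
    refine Submodule.span_mono ?_ h1
    rintro _ ⟨j, hj, rfl⟩
    exact ⟨⟨j, hj⟩, rfl⟩
  obtain ⟨r, hr⟩ := (Submodule.mem_span_range_iff_exists_fun R).1 hys
  let w := z s - ∑ j : Fin s, r j • z j
  have hw : clsL (C fs (ModuleCat.of R ST')) i w = 0 := by
    have := congrArg (Subtype.val : N → _) hr
    simp only [Submodule.coe_sum, Submodule.coe_smul, y] at this
    simp only [w, map_sub, map_sum, map_smul, this, sub_self]
  rw [cls_eq_zero_iff fs hu ST'.subtype ST'.injective_subtype, Submodule.range_subtype] at hw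
  obtain ⟨e, he1, he2, he3⟩ := hw
  refine equation p fs hne hu s r hc.1 hc.2.2 he1 (he2.mono hint) ?_
  rw [he3]
  funext l
  simp only [w, Submodule.coe_sub, Submodule.coe_sum, Submodule.coe_smul, map_sub, map_sum, map_smul, hz,
    Function.comp_apply, gHom_apply, Pi.sub_apply, Finset.sum_apply, Pi.smul_apply]
  simp only [Algebra.smul_def]

end Groth.Agent.LC17.HL
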