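import Mathlib

/-!
Concrete extended Čech cochains with values in a big ring `L`: functions on bit vectors.
-/

set_option autoImplicit false

universe u

namespace Groth.Agent.LC17.HL

variable {A : Type u} [CommRing A] {L : Type u}

/-- cochains -/
abbrev W (L : Type u) : Type u := List Bool → L

/-- the product of the selected entries -/
def selProd : List A → List Bool → A
  | f :: fs, true :: l => f * selProd fs l
  | _ :: fs, false :: l => selProd fs l
  | _, _ => 1

/-- the differential -/
def δ [AddCommGroup L] : ℕ → W L → W L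
  | 0, _ => 0
  | m + 1, c => fun l => match l with
    | [] => 0
    | false :: l => δ m (fun l' => c (false :: l')) l
    | true :: l => -c (false :: l) - δ m (fun l' => c (true :: l')) l

/-- cochains of degree `n` on a list of length `m` -/
def Supp [Zero L] (m : ℕ) (n : ℤ) (c : W L) : Prop :=
  ∀ l, c l ≠ 0 → l.length = m ∧ (l.count true : ℤ) = n

section diff

variable [AddCommGroup L]

theorem δ_map {L' : Type u} [AddCommGroup L'] (σ : L →+ L') :
    ∀ (m : ℕ) (c : W L), δ m (σ ∘ c) = σ ∘ δ m c := by
  intro m
  induction m with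
  | zero => exact fun c => funext fun l => (map_zero σ).symm
  | succ m ih =>
    intro c
    funext l
    rcases l with _ | ⟨b, l⟩
    · exact (map_zero σ).symm
    · cases b
      · exact congrFun (ih fun l' => c (false :: l')) l
      · show -σ (c (false :: l)) - δ m (σ ∘ fun l' => c (true :: l')) l = σ _
        rw [ih, Function.comp_apply, ← map_neg, ← map_sub]
        rfl

theorem δ_add : ∀ (m : ℕ) (c c' : W L), δ m (c + c') = δ m c + δ m c' := by
  intro m
  induction m with
  | zero => exact fun c c' => (add_zero _).symm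
  | succ m ih =>
    intro c c'
    funext l
    rcases l with _ | ⟨b, l⟩
    · exact (add_zero _).symm
    · cases b
      · exact congrFun (ih (fun l' => c (false :: l')) (fun l' => c' (false :: l'))) l
      · have := congrFun (ih (fun l' => c (true :: l')) (fun l' => c' (true :: l'))) l
        show -(c (false :: l) + c' (false :: l)) - δ m ((fun l' => c (true :: l')) + fun l' => c' (true :: l')) l =
          (-c (false :: l) - δ m (fun l' => c (true :: l')) l) +
            (-c' (false :: l) - δ m (fun l' => c' (true :: l')) l)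
        rw [this, Pi.add_apply]
        abel

theorem δ_zero (m : ℕ) : δ m (0 : W L) = 0 := by
  have h := δ_add m (0 : W L) 0
  rw [add_zero] at h
  exact add_eq_left.1 h.symm

theorem δ_sub (m : ℕ) (c c' : W L) : δ m (c - c') = δ m c - δ m c' := by
  rw [eq_sub_iff_add_eq, ← δ_add, sub_add_cancel]

theorem supp_cons_false {m : ℕ} {n : ℤ} {c : W L} (h : Supp (m + 1) n c) :
    Supp m n (fun l => c (false :: l)) := fun l hl => by
  obtain ⟨h1, h2⟩ := h _ hl
  simp only [List.length_cons, List.count_cons, beq_iff_eq] at h1 h2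
  exact ⟨by omega, by simpa using h2⟩

theorem supp_cons_true {m : ℕ} {n : ℤ} {c : W L} (h : Supp (m + 1) n c) :
    Supp m (n - 1) (fun l => c (true :: l)) := fun l hl => by
  obtain ⟨h1, h2⟩ := h _ hl
  simp only [List.length_cons, List.count_cons, beq_iff_eq, if_true, Nat.cast_add, Nat.cast_one] at h1 h2
  exact ⟨by omega, by omega⟩

theorem Supp.eq_zero_of_nil {m : ℕ} {n : ℤ} {c : W L} (h : Supp (m + 1) n c) : c [] = 0 := by
  by_contra hc
  simpa using (h _ hc).1

/-- the constant complex of a nonempty list is exact, with an explicit homotopy -/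
theorem exists_δ_eq (m : ℕ) {n : ℤ} {c : W L} (hs : Supp (m + 1) n c) (hc : δ (m + 1) c = 0) :
    ∃ b : W L, Supp (m + 1) (n - 1) b ∧ δ (m + 1) b = c ∧ ∀ l, b l = 0 ∨ ∃ l', b l = -c l' := by
  classical
  let b : W L := fun l => match l with
    | false :: l => -c (true :: l)
    | _ => 0
  refine ⟨b, ?_, funext fun l => ?_, ?_⟩
  · rintro (_ | ⟨_ | _, l⟩) hl
    · exact absurd rfl hl
    · obtain ⟨h1, h2⟩ := supp_cons_true hs l (fun h => hl (show -c (true :: l) = 0 by
        rw [show c (true :: l) = 0 from h, neg_zero]))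
      refine ⟨by simp [h1], ?_⟩
      simpa using h2
    · exact absurd rfl hl
  · rcases l with _ | ⟨_ | _, l⟩
    · exact hs.eq_zero_of_nil.symm
    · have h0 := congrFun hc (true :: l)
      replace h0 : -c (false :: l) - δ m (fun l' => c (true :: l')) l = 0 := h0
      show δ m (fun l' => -c (true :: l')) l = c (false :: l)
      have h1 := δ_sub m (0 : W L) (fun l' => c (true :: l'))
      rw [δ_zero, zero_sub] at h1
      rw [show (fun l' => -c (true :: l')) = (0 : W L) - fun l' => c (true :: l') from
        funext fun l' => (zero_sub _).symm, δ_sub, δ_zero, zero_sub, Pi.neg_apply]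
      linear_combination (norm := abel) h0
    · show -(-c (true :: l)) - δ m (0 : W L) l = c (true :: l)
      rw [δ_zero, neg_neg, Pi.zero_apply, sub_zero]
  · rintro (_ | ⟨_ | _, l⟩)
    · exact Or.inl rfl
    · exact Or.inr ⟨true :: l, rfl⟩
    · exact Or.inl rfl

theorem supp_δ : ∀ (m : ℕ) {n : ℤ} {c : W L}, Supp m n c → Supp m (n + 1) (δ m c) := by
  intro m
  induction m with
  | zero => exact fun _ l hl => absurd rfl hl
  | succ m ih =>
    intro n c hs
    rintro (_ | ⟨_ | _, l⟩) hl
    · exact absurd rfl hl
    · obtain ⟨h1, h2⟩ := ih (supp_cons_false hs) l hl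
      exact ⟨by simp [h1], by simpa using h2⟩
    · by_cases h : δ m (fun l' => c (true :: l')) l = 0
      · have hc : c (false :: l) ≠ 0 := fun h' => hl (by
          show -c (false :: l) - δ m (fun l' => c (true :: l')) l = 0
          rw [h, h', neg_zero, sub_zero])
        obtain ⟨h1, h2⟩ := supp_cons_false hs l hc
        exact ⟨by simp [h1], by simp [h2]⟩
      · obtain ⟨h1, h2⟩ := ih (supp_cons_true hs) l h
        refine ⟨by simp [h1], ?_⟩
        simp only [List.count_cons_self, Nat.cast_add, Nat.cast_one, h2]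
        ring

end diff

section mem

variable [CommRing L] [Algebra A L]

/-- each entry lies in `T` localized at the product of the selected elements -/
def Mem (fs : List A) (T : Submodule A L) (c : W L) : Prop :=
  ∀ l, ∃ k : ℕ, algebraMap A L (selProd fs l ^ k) * c l ∈ T

theorem Mem.mono {fs : List A} {T T' : Submodule A L} (h : T ≤ T') {c : W L} (hc : Mem fs T c) :
    Mem fs T' c := fun l => (hc l).imp fun _ hk => h hk

theorem mul_pow_mem {P : A} {T : Submodule A L} {x : L} {k j : ℕ}
    (hk : algebraMap A L (P ^ k) * x ∈ T) (hj : k ≤ j) : algebraMap A L (P ^ j) * x ∈ T := by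
  obtain ⟨i, rfl⟩ := Nat.exists_eq_add_of_le hj
  rw [pow_add, mul_comm (P ^ k), map_mul, mul_assoc, ← Algebra.smul_def]
  exact T.smul_mem _ hk

theorem mem_zero (fs : List A) (T : Submodule A L) : Mem fs T (0 : W L) := fun l => ⟨0, by simp⟩

theorem Mem.add {fs : List A} {T : Submodule A L} {c c' : W L} (h : Mem fs T c) (h' : Mem fs T c') :
    Mem fs T (c + c') := fun l => by
  obtain ⟨k, hk⟩ := h l
  obtain ⟨k', hk'⟩ := h' l
  refine ⟨max k k', ?_⟩
  rw [Pi.add_apply, mul_add]
  exact T.add_mem (mul_pow_mem hk (le_max_left _ _)) (mul_pow_mem hk' (le_max_right _ _))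

theorem Mem.neg {fs : List A} {T : Submodule A L} {c : W L} (h : Mem fs T c) : Mem fs T (-c) :=
  fun l => (h l).imp fun _ hk => by rw [Pi.neg_apply, mul_neg]; exact T.neg_mem hk

theorem Mem.sub {fs : List A} {T : Submodule A L} {c c' : W L} (h : Mem fs T c) (h' : Mem fs T c') :
    Mem fs T (c - c') := by rw [sub_eq_add_neg]; exact h.add h'.neg

theorem Mem.smul {fs : List A} {T : Submodule A L} {c : W L} (h : Mem fs T c) (a : A) :
    Mem fs T (a • c) := fun l => (h l).imp fun k hk => by
  rw [Pi.smul_apply, mul_smul_comm]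
  exact T.smul_mem a hk

theorem Mem.finset_sum {ι : Type*} {fs : List A} {T : Submodule A L} (s : Finset ι) (c : ι → W L)
    (h : ∀ i ∈ s, Mem fs T (c i)) : Mem fs T (∑ i ∈ s, c i) :=
  Finset.sum_induction c (Mem fs T) (fun _ _ => Mem.add) (mem_zero fs T) h

theorem mem_cons_iff {f : A} {fs : List A} {T : Submodule A L} {c : W L} :
    Mem (f :: fs) T c ↔ (∃ k : ℕ, algebraMap A L (1 ^ k) * c [] ∈ T) ∧
      Mem fs T (fun l => c (false :: l)) ∧
      ∀ l, ∃ k : ℕ, algebraMap A L ((f * selProd fs l) ^ k) * c (true :: l) ∈ T := by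
  constructor
  · exact fun h => ⟨h [], fun l => h (false :: l), fun l => h (true :: l)⟩
  · rintro ⟨h0, h1, h2⟩ (_ | ⟨_ | _, l⟩)
    · exact h0
    · exact h1 l
    · exact h2 l

end mem

end Groth.Agent.LC17.HL
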