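import Groth.Agent.LC17.HL.KillImage
import Groth.Agent.LC15.OfLE

/-!
Bounding cocycles does not depend on the chosen list, only on the radical of its span; restriction of scalars.
-/

set_option autoImplicit false
set_option backward.isDefEq.respectTransparency.types false

universe u

namespace Groth.Agent.LC17.HL

open LC15 LC16.CechPairs LC16.CechFam

variable {R : Type u} [CommRing R] [IsNoetherianRing R] {L : Type u} [Field L] [Algebra R L]

theorem Hmap_zero_of_radical {I J : Ideal R} (h : I ≤ J) (hJ : J ≤ I.radical) (i : ℕ) {M N : Type u}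
    [AddCommGroup M] [Module R M] [AddCommGroup N] [Module R N] (f : M →ₗ[R] N) :
    Hmap J i f = 0 ↔ Hmap I i f = 0 := by
  constructor
  · intro h0
    refine LinearMap.ext fun y => ?_
    obtain ⟨x, rfl⟩ := (HofLE_bijective_radical h i (M := M) hJ).2 y
    rw [← HofLE_Hmap, h0, LinearMap.zero_apply, map_zero, LinearMap.zero_apply]
  · intro h0
    refine LinearMap.ext fun y => (HofLE_bijective_radical h i (M := N) hJ).1 ?_
    rw [HofLE_Hmap, h0, LinearMap.zero_apply, LinearMap.zero_apply, map_zero]

/-- only the radical of the span matters -/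
theorem bounds_of_radical (fs gs : List R) (hu : ∀ f ∈ fs, algebraMap R L f ≠ 0)
    (hv : ∀ g ∈ gs, algebraMap R L g ≠ 0) {I : Ideal R}
    (hfs : (Ideal.span {x | x ∈ fs}).radical = I) (hgs : (Ideal.span {x | x ∈ gs}).radical = I)
    (M N : Submodule R L) (hle : M ≤ N) (i : ℕ)
    (h : ∀ c, IsCoc gs M i c → IsBdy gs N i c) : ∀ c, IsCoc fs M i c → IsBdy fs N i c := by
  have key : ∀ (l : List R) (hl : ∀ g ∈ l, algebraMap R L g ≠ 0),
      (Hmap (Ideal.span {x | x ∈ l}) i (Submodule.inclusion hle) = 0 ↔
        ∀ c, IsCoc l M i c → IsBdy l N i c) := by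
    intro l hl
    have h1 := Tmap_eq_zero_iff l hl (M := ModuleCat.of R M) (M' := ModuleCat.of R N) M.subtype
      M.injective_subtype N.subtype N.injective_subtype (Submodule.inclusion hle) rfl i
    rw [Submodule.range_subtype, Submodule.range_subtype] at h1
    rw [← h1, Tmap_zero_iff l i (ModuleCat.of R M) (ModuleCat.of R N) (Submodule.inclusion hle)]
  have hK : ∀ (J : Ideal R), J.radical = I →
      (Hmap I i (Submodule.inclusion hle) = 0 ↔ Hmap J i (Submodule.inclusion hle) = 0) := fun J hJ =>
    Hmap_zero_of_radical (hJ ▸ Ideal.le_radical) hJ.ge i _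
  rw [← key fs hu, ← hK _ hfs, hK _ hgs, key gs hv]
  exact h

section restrict

variable {A : Type u} [CommRing A] [Algebra A R] [Algebra A L] [IsScalarTower A R L]

omit [IsNoetherianRing R]

theorem selProd_map : ∀ (gs : List A) (l : List Bool),
    selProd (gs.map (algebraMap A R)) l = algebraMap A R (selProd gs l) := by
  intro gs
  induction gs with
  | nil => intro l; cases l <;> exact (map_one _).symm
  | cons g gs ih =>
    intro l
    rcases l with _ | ⟨_ | _, l⟩
    · exact (map_one _).symm
    · exact ih l
    · show algebraMap A R g * selProd (gs.map (algebraMap A R)) l = algebraMap A R (g * selProd gs l)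
      rw [ih, map_mul]

theorem mem_restrict_iff (gs : List A) (T : Submodule R L) (c : W L) :
    Mem (gs.map (algebraMap A R)) T c ↔ Mem gs (T.restrictScalars A) c := by
  refine forall_congr' fun l => exists_congr fun k => ?_
  rw [selProd_map, ← map_pow, ← IsScalarTower.algebraMap_apply]
  rfl

theorem isCoc_restrict_iff (gs : List A) (T : Submodule R L) (n : ℤ) (c : W L) :
    IsCoc (gs.map (algebraMap A R)) T n c ↔ IsCoc gs (T.restrictScalars A) n c := by
  simp only [IsCoc, List.length_map, mem_restrict_iff]

theorem isBdy_restrict_iff (gs : List A) (T : Submodule R L) (n : ℤ) (c : W L) :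
    IsBdy (gs.map (algebraMap A R)) T n c ↔ IsBdy gs (T.restrictScalars A) n c := by
  simp only [IsBdy, List.length_map, mem_restrict_iff]

end restrict

end Groth.Agent.LC17.HL
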