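import Groth.Agent.LC17.HL.RegMain
import Groth.Agent.LC17.HL.Radical
import Groth.Agent.CAlg1.CohenStructure
import Groth.Agent.CAlg6.CompleteSurj
import Groth.Agent.EGA4Alg4.IntegralDim
import Groth.Prelude.Def_Found

/-!
Over a complete local domain of characteristic `p`, cocycles bound in the absolute integral closure.
-/

set_option autoImplicit false
set_option backward.isDefEq.respectTransparency.types false

universe u

open IsLocalRing

namespace Groth.Agent.LC17.HL

theorem exists_gens {A : Type u} [CommRing A] (I : Ideal A) (hI : I.FG) :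
    ∃ gs : List A, Ideal.span {x | x ∈ gs} = I ∧ ∀ g ∈ gs, g ≠ 0 := by
  classical
  obtain ⟨G, hG⟩ := hI
  refine ⟨(G.filter (fun x => x ≠ 0)).toList, ?_, fun g hg => (Finset.mem_filter.1 (Finset.mem_toList.1 hg)).2⟩
  rw [← hG]
  have h1 : {x | x ∈ (G.filter (fun x => x ≠ 0)).toList} = (G : Set A) \ {0} := by
    ext x; simp
  rw [h1]
  exact Submodule.span_sdiff_singleton_zero

theorem isField_or_cohen_charP {Λ : Type u} [CommRing Λ] {D : Type u} [CommRing D] (p : ℕ) [Fact p.Prime]
    [CharP D p] (f : Λ →+* D) (hf : Function.Injective f) (h : IsField Λ ∨ CAlg.IsCohenRing Λ) : IsField Λ := by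
  refine h.resolve_right fun hc => ?_
  obtain ⟨hd, hv, -, q, hq, hm⟩ := hc
  have hp0 : (p : Λ) = 0 := hf (by rw [map_natCast, CharP.cast_eq_zero, map_zero])
  haveI := hv
  have hq0 : (q : Λ) ≠ 0 := fun h0 => IsDiscreteValuationRing.not_a_field Λ (by rw [hm, h0]; simp)
  have hqp : q ≠ p := fun e => hq0 (e ▸ hp0)
  have hco : Nat.Coprime q p := (Nat.coprime_primes hq (Fact.out : p.Prime)).2 hqp
  have hu : IsUnit (q : Λ) := by
    have hb := Nat.Coprime.isCoprime hco
    obtain ⟨a, b, hab⟩ := hb
    refine IsUnit.of_mul_eq_one (a : Λ) ?_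
    have := congrArg (fun z : ℤ => (z : Λ)) hab
    push_cast at this
    rw [hp0, mul_zero, add_zero] at this
    rw [mul_comm]
    exact this
  have hmem : (q : Λ) ∈ maximalIdeal Λ := by rw [hm]; exact Ideal.subset_span rfl
  exact hmem hu

variable (p : ℕ) [Fact p.Prime]

/-- the bound on cocycles over a complete local domain -/
theorem complete_bound (D : Type u) [CommRing D] [IsDomain D] [IsLocalRing D] [IsNoetherianRing D]
    [IsAdicComplete (maximalIdeal D) D] [CharP D p] (L : Type u) [Field L] [IsAlgClosed L] [Algebra D L]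
    (hinj : Function.Injective (algebraMap D L)) (fs : List D) (hfs : ∀ f ∈ fs, f ≠ 0)
    (hrad : (Ideal.span {x | x ∈ fs}).radical = maximalIdeal D) (i : ℕ)
    (hi : (i : WithBot ℕ∞) < ringKrullDim D) (c : W L)
    (hc : IsCoc fs (Subalgebra.toSubmodule (⊥ : Subalgebra D L)) i c) :
    IsBdy fs (Subalgebra.toSubmodule (integralClosure D L)) i c := by
  obtain ⟨Λ, iΛ, n, f, hΛ, hf, hfin, -⟩ := Groth.Agent.CAlg1.exists_finite_injective D
  letI := iΛ
  have hF : IsField Λ := isField_or_cohen_charP p (f.comp (MvPowerSeries.C (σ := Fin n) (R := Λ)))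
    (hf.comp (fun a b h => by simpa using congrArg (MvPowerSeries.constantCoeff (σ := Fin n) (R := Λ)) h)) hΛ
  letI : Field Λ := hF.toField
  let A := MvPowerSeries (Fin n) Λ
  haveI : IsRegularLocalRing A := CAlg6.isRegularLocalRing_mvPowerSeries
  have hn : ringKrullDim A = n := CAlg6.ringKrullDim_mvPowerSeries
  letI : Algebra A D := f.toAlgebra
  haveI : Module.Finite A D := hfin
  haveI : Algebra.IsIntegral A D := Algebra.IsIntegral.of_finite A D
  letI : Algebra A L := ((algebraMap D L).comp f).toAlgebra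
  haveI : IsScalarTower A D L := IsScalarTower.of_algebraMap_eq fun _ => rfl
  have hAL : Function.Injective (algebraMap A L) := hinj.comp hf
  haveI : CharP L p := charP_of_injective_ringHom hinj p
  have hin : i < n := by
    have := EGA4Alg4.ringKrullDim_eq_of_integral A D hf
    rw [this, hn] at hi
    exact_mod_cast hi
  obtain ⟨gs, hgs, hgs0⟩ := exists_gens (maximalIdeal A) (IsNoetherian.noetherian _)
  have hu : ∀ g ∈ gs, algebraMap A L g ≠ 0 := fun g hg h0 => hgs0 g hg (hAL (h0.trans (map_zero _).symm))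
  let T : Subalgebra A L := (IsScalarTower.toAlgHom A D L).range
  haveI : Module.Finite A T := Module.Finite.of_surjective (IsScalarTower.toAlgHom A D L).rangeRestrict.toLinearMap
    (IsScalarTower.toAlgHom A D L).rangeRestrict_surjective
  obtain ⟨T', hle, hT'fin, h0⟩ := regular_main p n A L hAL hn T i hin
  have hcl : Subalgebra.toSubmodule T' ≤ (Subalgebra.toSubmodule (integralClosure D L)).restrictScalars A :=
    fun x hx => by
      have h1 : IsIntegral A (⟨x, hx⟩ : T') := Algebra.IsIntegral.isIntegral _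
      have h2 : IsIntegral A x := h1.map T'.val
      exact h2.tower_top
  have hbot : Subalgebra.toSubmodule T = (Subalgebra.toSubmodule (⊥ : Subalgebra D L)).restrictScalars A := by
    ext x
    show x ∈ (IsScalarTower.toAlgHom A D L).range ↔ x ∈ (⊥ : Subalgebra D L)
    rw [Algebra.mem_bot]
    rfl
  have hgsD : ∀ g ∈ gs.map (algebraMap A D), algebraMap D L g ≠ 0 := by
    intro g hg
    obtain ⟨a, ha, rfl⟩ := List.mem_map.1 hg
    rw [← IsScalarTower.algebraMap_apply]
    exact hu a ha
  have hradg : (Ideal.span {x | x ∈ gs.map (algebraMap A D)}).radical = maximalIdeal D := by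
    have hspan : Ideal.span {x | x ∈ gs.map (algebraMap A D)} = (maximalIdeal A).map (algebraMap A D) := by
      rw [← hgs, Ideal.map_span]
      congr 1
      ext x
      simp
    rw [hspan]
    have hne : (maximalIdeal A).map (algebraMap A D) ≠ ⊤ := by
      intro htop
      obtain ⟨Q, -, hQ, hQc⟩ := Ideal.exists_ideal_over_prime_of_isIntegral (S := D) (maximalIdeal A) ⊥
        (by rw [← RingHom.ker_eq_comap_bot, (RingHom.injective_iff_ker_eq_bot (algebraMap A D)).mp hf]; exact bot_le)
      exact hQ.ne_top (top_le_iff.1 (htop.ge.trans (Ideal.map_le_iff_le_comap.2 hQc.ge)))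
    refine le_antisymm ((Ideal.IsMaximal.isPrime' _).radical_le_iff.2 (IsLocalRing.le_maximalIdeal hne)) ?_
    rw [Ideal.radical_eq_sInf]
    refine le_sInf fun P ⟨hP, hPp⟩ => ?_
    haveI : P.IsPrime := hPp
    have hcm : (P.comap (algebraMap A D)).IsMaximal := by
      have h1 : maximalIdeal A ≤ P.comap (algebraMap A D) := Ideal.map_le_iff_le_comap.1 hP
      exact (le_antisymm h1 (IsLocalRing.le_maximalIdeal (Ideal.IsPrime.ne_top inferInstance))) ▸ inferInstance
    exact (IsLocalRing.eq_maximalIdeal (Ideal.isMaximal_of_isIntegral_of_isMaximal_comap P hcm)).ge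
  refine bounds_of_radical fs (gs.map (algebraMap A D))
    (fun g hg h0 => hfs g hg (hinj (h0.trans (map_zero _).symm))) hgsD hrad hradg _ _
    (fun x hx => by obtain ⟨a, rfl⟩ := Algebra.mem_bot.1 hx; exact isIntegral_algebraMap) i
    (fun e he => ?_) c hc
  rw [isCoc_restrict_iff, ← hbot] at he
  rw [isBdy_restrict_iff]
  exact ((Hmap_zero_iff_isBdy gs hgs hu _ _ hle i).1 h0 e he).mono hcl

end Groth.Agent.LC17.HL
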