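import Groth.Agent.LC17.HL.Approx
import Groth.Agent.LC17.HL.CompleteBound
import Groth.Agent.Hensel20.FormalRegular
import Groth.Agent.CAlg1.GRingBasic
import Groth.Agent.CplGal24.NormalTensor
import Groth.Agent.Henz21.Henselization
import Groth.Agent.Henz21.FibreMinimal
import Groth.Agent.EGA4H10.Ratliff
import Groth.Agent.Cohen12.Completion

/-!
Cocycles over a normal local G-ring bound in any absolutely integrally closed henselian local ring above it.
-/

set_option autoImplicit false
set_option backward.isDefEq.respectTransparency.types false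

universe u

open IsLocalRing

namespace Groth.Agent.LC17.HL

theorem exists_fraction_lift {C : Type u} [CommRing C] [IsDomain C] {L : Type u} [Field L] [Algebra C L]
    (hinj : Function.Injective (algebraMap C L)) (fs : List C) (hu : ∀ f ∈ fs, algebraMap C L f ≠ 0)
    {n : ℤ} {c : W L} (hc : IsCoc fs (Subalgebra.toSubmodule (⊥ : Subalgebra C L)) n c) :
    ∃ c₀ : W (FractionRing C), IsFractionRing.lift hinj ∘ c₀ = c ∧
      IsCoc fs (Subalgebra.toSubmodule (⊥ : Subalgebra C (FractionRing C))) n c₀ := by
  obtain ⟨h1, h2, h3⟩ := hc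
  have hP : ∀ l, selProd fs l ≠ 0 := fun l h0 => selProd_ne_zero fs hu l (by rw [h0, map_zero])
  choose k hk using h2
  choose num hnum using fun l => Algebra.mem_bot.1 (hk l)
  let den : List Bool → nonZeroDivisors C := fun l =>
    ⟨selProd fs l ^ k l, mem_nonZeroDivisors_of_ne_zero (pow_ne_zero _ (hP l))⟩
  let c₀ : W (FractionRing C) := fun l => IsLocalization.mk' _ (num l) (den l)
  have hσ : Function.Injective (IsFractionRing.lift (K := FractionRing C) hinj) := RingHom.injective _
  have he : IsFractionRing.lift hinj ∘ c₀ = c := funext fun l =>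
    (IsLocalization.lift_mk'_spec _ _ _ _).2 (hnum l)
  refine ⟨c₀, he, fun l hl => h1 l fun h0 => hl (hσ ?_), fun l => ⟨k l, ?_⟩, funext fun l => hσ ?_⟩
  · rw [map_zero]
    exact (congrFun he l).trans h0
  · refine Algebra.mem_bot.2 ⟨num l, ?_⟩
    exact (IsLocalization.mk'_spec' (FractionRing C) (num l) (den l)).symm
  · have h4 := congrFun (δ_map (IsFractionRing.lift (K := FractionRing C) hinj).toAddMonoidHom fs.length c₀) l
    rw [Pi.zero_apply, map_zero]
    refine h4.symm.trans ?_
    show δ fs.length (IsFractionRing.lift hinj ∘ c₀) l = 0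
    rw [he, h3]
    rfl

theorem isCoc_map {H : Type u} [CommRing H] [IsDomain H] {M : Type u} [Field M] [Algebra H M]
    (hinj : Function.Injective (algebraMap H M)) {R : Type u} [CommRing R] [Algebra H R] [Algebra R M]
    [IsScalarTower H R M] (fs : List H) {n : ℤ} {c₀ : W (FractionRing H)}
    (hc : IsCoc fs (Subalgebra.toSubmodule (⊥ : Subalgebra H (FractionRing H))) n c₀) :
    IsCoc (fs.map (algebraMap H R)) (Subalgebra.toSubmodule (⊥ : Subalgebra R M)) n
      (IsFractionRing.lift hinj ∘ c₀) := by
  rw [isCoc_restrict_iff]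
  obtain ⟨h1, h2, h3⟩ := hc
  refine ⟨fun l hl => h1 l fun h0 => hl ?_, fun l => ?_, ?_⟩
  · show IsFractionRing.lift hinj (c₀ l) = 0
    rw [h0, map_zero]
  · obtain ⟨k, hk⟩ := h2 l
    obtain ⟨x, hx⟩ := Algebra.mem_bot.1 hk
    refine ⟨k, Algebra.mem_bot.2 ⟨algebraMap H R x, ?_⟩⟩
    have h4 := congrArg (IsFractionRing.lift (K := FractionRing H) hinj) hx
    rw [map_mul, IsFractionRing.lift_algebraMap, IsFractionRing.lift_algebraMap] at h4
    rw [← IsScalarTower.algebraMap_apply]
    exact h4
  · refine (δ_map (IsFractionRing.lift (K := FractionRing H) hinj).toAddMonoidHom fs.length c₀).trans ?_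
    rw [h3]
    exact funext fun _ => map_zero _

theorem core (p : ℕ) [Fact p.Prime] (C : Type u) [CommRing C] [IsDomain C] [IsIntegrallyClosed C]
    [IsNoetherianRing C] [IsLocalRing C] [CharP C p] (hG : CAlg.IsGRing C) (L : Type u) [Field L] [IsAlgClosed L]
    [Algebra C L] (hinj : Function.Injective (algebraMap C L)) (V : Subalgebra C L) [HenselianLocalRing V]
    [IsLocalHom (algebraMap C V)] (hV : ∀ x : L, IsIntegral V x → x ∈ V) (fs : List C)
    (hfs : ∀ f ∈ fs, f ≠ 0) (hrad : (Ideal.span {x | x ∈ fs}).radical = maximalIdeal C) (i : ℕ)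
    (hi : (i : WithBot ℕ∞) < ringKrullDim C) (c : W L)
    (hc : IsCoc fs (Subalgebra.toSubmodule (⊥ : Subalgebra C L)) i c) :
    IsBdy fs (Subalgebra.toSubmodule V) i c := by
  classical
  let H := Henz21.Henselization C
  haveI : HenselianLocalRing H := (Henz21.Henselization.isHenselization C).henselian
  have hHG : CAlg.IsGRing H := CAlg1.GR.isGRing_henselization (S := H) hG
  haveI := hHG.1
  obtain ⟨g, hg, -⟩ := (Henz21.Henselization.isHenselization C).universal V (algebraMap C V) inferInstance
  obtain ⟨e, he⟩ := Hensel20.exists_completion_equiv (R := C) H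
  let D := AdicCompletion (maximalIdeal H) H
  obtain ⟨hd1, -⟩ := CplGal24.isDomain_isIntegrallyClosed_cpl_self C hG
  haveI : IsDomain (AdicCompletion (maximalIdeal C) C) := hd1
  haveI : IsDomain D := e.symm.toMulEquiv.isDomain
  haveI : IsNoetherianRing D := EGA4H10.isNoetherianRing_cpl (A := H)
  haveI : IsAdicComplete (maximalIdeal D) D := Cohen12.isAdicComplete_completion H
  have hHD : Function.Injective (algebraMap H D) := AdicCompletion.of_injective (maximalIdeal H) H
  haveI : IsDomain H := hHD.isDomain _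
  have hCH : Function.Injective (algebraMap C H) := fun x y hxy =>
    hinj (congrArg Subtype.val ((RingHom.congr_fun hg x).symm.trans ((congrArg g hxy).trans (RingHom.congr_fun hg y))))
  letI : Algebra H L := ((V.val.toRingHom).comp g).toAlgebra
  haveI : IsScalarTower C H L := IsScalarTower.of_algebraMap_eq fun x =>
    (congrArg Subtype.val (RingHom.congr_fun hg x)).symm
  have hHL : Function.Injective (algebraMap H L) := by
    rw [RingHom.injective_iff_ker_eq_bot]
    haveI : (RingHom.ker (algebraMap H L)).IsPrime := RingHom.ker_isPrime _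
    refine (Henz21.eq_of_le_of_comap_eq (R := C) (K := ResidueField C) (⊥ : Ideal H)
      (RingHom.ker (algebraMap H L)) bot_le ?_).symm
    ext x
    simp only [Ideal.mem_comap, Ideal.mem_bot, RingHom.mem_ker]
    show algebraMap C H x = 0 ↔ algebraMap H L (algebraMap C H x) = 0
    rw [← IsScalarTower.algebraMap_apply, map_eq_zero_iff _ hinj, map_eq_zero_iff _ hCH]
  let M := AlgebraicClosure (FractionRing D)
  haveI : IsScalarTower H D M := inferInstance
  have hDM : Function.Injective (algebraMap D M) := by
    rw [IsScalarTower.algebraMap_eq D (FractionRing D) M]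
    exact (algebraMap (FractionRing D) M).injective.comp (IsFractionRing.injective D (FractionRing D))
  have hHM : Function.Injective (algebraMap H M) := by
    rw [IsScalarTower.algebraMap_eq H D M]
    exact hDM.comp hHD
  haveI : CharP H p := charP_of_injective_ringHom hCH p
  haveI : CharP D p := charP_of_injective_ringHom hHD p
  have hu : ∀ f ∈ fs, algebraMap C L f ≠ 0 := fun f hf h0 => hfs f hf (hinj (h0.trans (map_zero _).symm))
  have huH : ∀ f ∈ fs.map (algebraMap C H), algebraMap H L f ≠ 0 := fun f hf => by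
    obtain ⟨a, ha, rfl⟩ := List.mem_map.1 hf
    rw [← IsScalarTower.algebraMap_apply]
    exact hu a ha
  have hcH : IsCoc (fs.map (algebraMap C H)) (Subalgebra.toSubmodule (⊥ : Subalgebra H L)) i c := by
    rw [isCoc_restrict_iff]
    refine ⟨hc.1, hc.2.1.mono fun x hx => ?_, hc.2.2⟩
    obtain ⟨a, rfl⟩ := Algebra.mem_bot.1 hx
    exact Algebra.mem_bot.2 ⟨algebraMap C H a, (IsScalarTower.algebraMap_apply C H L a).symm⟩
  obtain ⟨c₀, hc₀, hcoc⟩ := exists_fraction_lift hHL _ huH hcH
  set fsD := (fs.map (algebraMap C H)).map (algebraMap H D) with hfsD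
  have hradD : (Ideal.span {x | x ∈ fsD}).radical = maximalIdeal D := by
    obtain ⟨k, hk⟩ := Ideal.exists_pow_le_of_le_radical_of_fg hrad.ge (IsNoetherian.noetherian _)
    have hspan : Ideal.span {x | x ∈ fsD} =
        ((Ideal.span {x | x ∈ fs}).map (algebraMap C H)).map (algebraMap H D) := by
      rw [Ideal.map_span, Ideal.map_span]
      congr 1
      ext x
      simp [hfsD]
    have hm : maximalIdeal D = ((maximalIdeal C).map (algebraMap C H)).map (algebraMap H D) := by
      rw [Henz21.henselization_map_maximalIdeal (R := C) H]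
      exact AdicCompletion.maximalIdeal_eq_map
    refine le_antisymm ((Ideal.IsMaximal.isPrime' _).radical_le_iff.2 ?_) ?_
    · rw [hspan, hm]
      refine Ideal.map_mono (Ideal.map_mono ?_)
      rw [← hrad]
      exact Ideal.le_radical
    · intro x hx
      refine ⟨k, ?_⟩
      rw [hspan]
      have h5 := Ideal.pow_mem_pow hx k
      rw [hm, ← Ideal.map_pow, ← Ideal.map_pow] at h5
      exact Ideal.map_mono (Ideal.map_mono hk) h5
  have hfsD0 : ∀ f ∈ fsD, f ≠ 0 := fun f hf => by
    simp only [hfsD, List.map_map, List.mem_map] at hf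
    obtain ⟨a, ha, rfl⟩ := hf
    exact fun h0 => hfs a ha ((hHD.comp hCH) (h0.trans (by simp)))
  have hiD : (i : WithBot ℕ∞) < ringKrullDim D := by
    rwa [← ringKrullDim_eq_of_ringEquiv e, EGA4H10.ringKrullDim_cpl C]
  have h6 := complete_bound p D M hDM fsD hfsD0 hradD i hiD _ (isCoc_map (R := D) hHM _ hcoc)
  have h7 := descend hHG hHL hDM hHM (fs.map (algebraMap C H)) huH i c₀ h6
  rw [hc₀, isBdy_restrict_iff] at h7
  refine h7.mono fun x hx => hV x ?_
  obtain ⟨q, hq, hqe⟩ := hx
  refine ⟨q.map g, hq.map _, ?_⟩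
  rw [Polynomial.eval₂_map]
  exact hqe

end Groth.Agent.LC17.HL
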