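import Groth.Agent.LC17.HL.Core
import Groth.Agent.LC17.HL.Closure
import Groth.Agent.CAlg1.NagataBasic
import Groth.Agent.EGA4H10.FTGRingDescent
import Groth.Agent.EGA4H10.GRingLoc

/-!
Cocycles over a normal local Nagata G-ring bound in its absolute integral closure.
-/

set_option autoImplicit false
set_option backward.isDefEq.respectTransparency.types false

universe u

open IsLocalRing

namespace Groth.Agent.LC17.HL

theorem coch_bounds (p : ℕ) [Fact p.Prime] (B : Type u) [CommRing B] [IsDomain B] [IsIntegrallyClosed B]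
    [IsNoetherianRing B] [IsLocalRing B] [CharP B p] (hG : CAlg.IsGRing B) (hN : CAlg.IsN2 B)
    (L : Type u) [Field L] [IsAlgClosed L] [Algebra B L] (hinj : Function.Injective (algebraMap B L))
    (fs : List B) (hfs : ∀ f ∈ fs, f ≠ 0) (hspan : Ideal.span {x | x ∈ fs} = maximalIdeal B) (i : ℕ)
    (hi : (i : WithBot ℕ∞) < ringKrullDim B) (c : W L)
    (hc : IsCoc fs (Subalgebra.toSubmodule (integralClosure B L)) i c) :
    IsBdy fs (Subalgebra.toSubmodule (integralClosure B L)) i c := by
  classical
  refine isBdy_of_locally fs i c fun n hn => ?_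
  let K := FractionRing B
  letI : Algebra K L := (IsFractionRing.lift hinj).toAlgebra
  haveI : IsScalarTower B K L := IsScalarTower.of_algebraMap_eq fun x =>
    (IsFractionRing.lift_algebraMap hinj x).symm
  choose k hk using hc.2.1
  have hfin : {l : List Bool | l.length = fs.length}.Finite := List.finite_length_eq Bool fs.length
  let z : List Bool → L := fun l => algebraMap B L (selProd fs l ^ k l) * c l
  let E : IntermediateField K L := IntermediateField.adjoin K (z '' (hfin.toFinset : Set (List Bool)))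
  haveI : Finite (z '' (hfin.toFinset : Set (List Bool))) := (hfin.toFinset.finite_toSet.image z).to_subtype
  haveI : FiniteDimensional K E := IntermediateField.finiteDimensional_adjoin fun x hx => by
    obtain ⟨l, -, rfl⟩ := hx
    exact (hk l : IsIntegral B (z l)).tower_top
  let C₀ := integralClosure B E
  haveI : Module.Finite B C₀ := hN E inferInstance
  haveI : IsIntegrallyClosed C₀ := integralClosure.isIntegrallyClosedOfFiniteExtension (R := B) K
  haveI : IsNoetherianRing C₀ := IsNoetherianRing.of_finite B C₀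
  have hBE : Function.Injective (algebraMap B E) := fun x y hxy => hinj (congrArg E.val hxy :)
  have hBC₀ : Function.Injective (algebraMap B C₀) := fun x y hxy => hBE (congrArg Subtype.val hxy :)
  haveI : FaithfulSMul B C₀ := (faithfulSMul_iff_algebraMap_injective _ _).2 hBC₀
  let j : C₀ →+* integralClosure B L :=
    (E.val.restrictScalars B).mapIntegralClosure.toRingHom
  have hj : ∀ x : C₀, (j x : L) = ((x : E) : L) := fun _ => rfl
  let 𝔭 : Ideal C₀ := n.comap j
  haveI : 𝔭.IsPrime := Ideal.IsPrime.comap j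
  have hunder : 𝔭.comap (algebraMap B C₀) = maximalIdeal B := by
    have h2 : 𝔭.comap (algebraMap B C₀) = n.comap (algebraMap B (integralClosure B L)) := by
      rw [Ideal.comap_comap]
      exact congrArg (Ideal.comap · n) (RingHom.ext fun x => Subtype.ext rfl)
    rw [h2]
    exact IsLocalRing.eq_maximalIdeal (Ideal.isMaximal_comap_of_isIntegral_of_isMaximal n)
  let C := Localization.AtPrime 𝔭
  haveI : IsDomain C := IsLocalization.isDomain_localization 𝔭.primeCompl_le_nonZeroDivisors
  haveI : IsNoetherianRing C := IsLocalization.isNoetherianRing 𝔭.primeCompl C inferInstance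
  haveI : IsIntegrallyClosed C := isIntegrallyClosed_of_isLocalization C 𝔭.primeCompl 𝔭.primeCompl_le_nonZeroDivisors
  have hCG : CAlg.IsGRing C := EGA4H10.isGRing_localization
    (EGA4H10.isGRing_of_finiteType_gRing B hG C₀) 𝔭.primeCompl
  have hC₀L : Function.Injective ((E.val.toRingHom).comp (algebraMap C₀ E)) :=
    E.val.injective.comp (fun x y h => Subtype.ext h)
  have hu𝔭 : ∀ s : 𝔭.primeCompl, IsUnit (((E.val.toRingHom).comp (algebraMap C₀ E)) s) := fun s =>
    IsUnit.mk0 _ fun h0 => s.2 (by rw [hC₀L (h0.trans (map_zero _).symm)]; exact 𝔭.zero_mem)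
  letI : Algebra C L := (IsLocalization.lift (M := 𝔭.primeCompl) (S := C) hu𝔭).toAlgebra
  have hCL₀ : ∀ x : C₀, algebraMap C L (algebraMap C₀ C x) = ((x : E) : L) := fun x => IsLocalization.lift_eq _ x
  haveI : IsScalarTower B C L := IsScalarTower.of_algebraMap_eq fun x => by
    rw [IsScalarTower.algebraMap_apply B C₀ C, hCL₀]
    rfl
  have hCinj : Function.Injective (algebraMap C L) := by
    refine (IsLocalization.lift_injective_iff _).2 fun x y => ?_
    rw [(IsLocalization.injective C 𝔭.primeCompl_le_nonZeroDivisors).eq_iff]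
    exact ⟨congrArg _, fun h => hC₀L h⟩
  have hBC : Function.Injective (algebraMap B C) := by
    intro x y hxy
    refine hinj ?_
    rw [IsScalarTower.algebraMap_apply B C L, hxy, ← IsScalarTower.algebraMap_apply]
  haveI : CharP C p := charP_of_injective_ringHom hBC p
  have hC : ∀ x : C, ∃ s : integralClosure B L, s ∉ n ∧ (s : L) * algebraMap C L x ∈ integralClosure B L := by
    intro x
    obtain ⟨⟨a, s⟩, h⟩ := IsLocalization.surj 𝔭.primeCompl x
    refine ⟨j s.1, s.2, ?_⟩
    rw [hj, ← hCL₀, ← map_mul, mul_comm, h, hCL₀, ← hj]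
    exact (j a).2
  let V : Subalgebra C L := locCl n hC
  haveI : HenselianLocalRing V := henselian_locCl n hC
  haveI : IsLocalHom (algebraMap C V) := ⟨fun x hx => by
    obtain ⟨a, s, rfl⟩ := IsLocalization.exists_mk'_eq 𝔭.primeCompl x
    rw [IsLocalization.AtPrime.isUnit_mk'_iff C 𝔭]
    intro ha
    refine (isUnit_iff_locCl n hC _ (s := j s.1) (a := j a) s.2 ?_).1 hx ha
    show (j s.1 : L) * algebraMap C L (IsLocalization.mk' C a s) = _
    rw [hj, ← hCL₀, ← map_mul, IsLocalization.mk'_spec', hCL₀, ← hj]⟩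
  have hmap : ∀ f ∈ fs.map (algebraMap B C), f ≠ 0 := fun f hf => by
    obtain ⟨a, ha, rfl⟩ := List.mem_map.1 hf
    exact fun h0 => hfs a ha (hBC (h0.trans (map_zero _).symm))
  have hrad : (Ideal.span {x | x ∈ fs.map (algebraMap B C)}).radical = maximalIdeal C := by
    have hsp : Ideal.span {x | x ∈ fs.map (algebraMap B C)} = (maximalIdeal B).map (algebraMap B C) := by
      rw [← hspan, Ideal.map_span]
      congr 1
      ext x
      simp
    rw [hsp]
    have hmax : maximalIdeal C = 𝔭.map (algebraMap C₀ C) := (Localization.AtPrime.map_eq_maximalIdeal (I := 𝔭)).symm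
    refine le_antisymm ((Ideal.IsMaximal.isPrime' _).radical_le_iff.2 ?_) ?_
    · rw [IsScalarTower.algebraMap_eq B C₀ C, ← Ideal.map_map, hmax]
      exact Ideal.map_mono (Ideal.map_le_iff_le_comap.2 hunder.ge)
    · rw [Ideal.radical_eq_sInf]
      refine le_sInf fun P ⟨hP, hPp⟩ => ?_
      haveI : P.IsPrime := hPp
      have hQle : P.comap (algebraMap C₀ C) ≤ 𝔭 := by
        have h1 := Ideal.comap_mono (f := algebraMap C₀ C) (IsLocalRing.le_maximalIdeal hPp.ne_top)
        exact h1.trans (le_of_eq Localization.AtPrime.comap_maximalIdeal)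
      have hQm : (P.comap (algebraMap C₀ C)).comap (algebraMap B C₀) = maximalIdeal B := by
        refine le_antisymm (hunder ▸ Ideal.comap_mono hQle) ?_
        rw [Ideal.comap_comap, ← IsScalarTower.algebraMap_eq]
        exact Ideal.map_le_iff_le_comap.1 hP
      have hQmax : (P.comap (algebraMap C₀ C)).IsMaximal :=
        Ideal.isMaximal_of_isIntegral_of_isMaximal_comap (R := B) _ (by rw [hQm]; infer_instance)
      rw [hmax]
      exact (Ideal.map_mono (hQmax.eq_of_le (Ideal.IsPrime.ne_top inferInstance) hQle).ge).trans Ideal.map_comap_le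
  have hiC : (i : WithBot ℕ∞) < ringKrullDim C := by
    refine hi.trans_le ?_
    rw [IsLocalization.AtPrime.ringKrullDim_eq_height 𝔭 C, ← IsLocalRing.maximalIdeal_height_eq_ringKrullDim]
    haveI : 𝔭.LiesOver (maximalIdeal B) := ⟨hunder.symm⟩
    refine WithBot.coe_le_coe.2 ?_
    rw [Ideal.height_eq_height_add_of_liesOver_of_hasGoingDown (maximalIdeal B) 𝔭]
    exact le_self_add
  have hcC : IsCoc (fs.map (algebraMap B C)) (Subalgebra.toSubmodule (⊥ : Subalgebra C L)) i c := by
    rw [isCoc_restrict_iff]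
    refine ⟨hc.1, fun l => ⟨k l, ?_⟩, hc.2.2⟩
    show z l ∈ (⊥ : Subalgebra C L)
    by_cases hl : c l = 0
    · simp [z, hl]
    have hlm : l ∈ hfin.toFinset := hfin.mem_toFinset.2 (hc.1 l hl).1
    have hzE : z l ∈ E := IntermediateField.subset_adjoin K _ ⟨l, hlm, rfl⟩
    have hzi : IsIntegral B (⟨z l, hzE⟩ : E) := by
      have h1 : IsIntegral B (z l) := hk l
      exact (isIntegral_algHom_iff (E.val.restrictScalars B) E.val.injective).1 h1
    exact Algebra.mem_bot.2 ⟨algebraMap C₀ C ⟨_, hzi⟩, hCL₀ ⟨_, hzi⟩⟩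
  obtain ⟨b, hb1, hb2, hb3⟩ := core p C hCG L hCinj V (fun x hx => mem_of_isIntegral_locCl n hC x hx)
    (fs.map (algebraMap B C)) hmap hrad i hiC c hcC
  simp only [List.length_map] at hb1 hb3
  refine ⟨b, hb1, hb3, fun l => ?_⟩
  obtain ⟨k', s, hs, hks⟩ := hb2 l
  refine ⟨k', s, hs, ?_⟩
  rw [selProd_map, ← map_pow, ← IsScalarTower.algebraMap_apply] at hks
  exact hks

end Groth.Agent.LC17.HL
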