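import Groth.Agent.Gor18.Regular
import Groth.Agent.LC16.CanonDual
import Groth.Agent.LC16.Colim
import Groth.Agent.LC17.GorExt
import Groth.Agent.CAlg1.CMPoly

/-!
Killing local cohomology maps of finite modules over a regular local ring, from localizations.
-/

set_option autoImplicit false

universe u

open IsLocalRing

namespace Groth.Agent.LC17.HL

open LC15

section regular

variable {R : Type u} [CommRing R] [IsRegularLocalRing R] {n : ℕ}

theorem subsingleton_H_finiteFree (hn : ringKrullDim R = n) {j : ℕ} (hj : j < n)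
    (F : Type u) [AddCommGroup F] [Module R F] [Module.Finite R F] [Module.Free R F] :
    Subsingleton (LocCoh.H (maximalIdeal R) j F) := by
  haveI := CAlg1.cm_of_isRegularLocalRing R
  let b := Module.Free.chooseBasis R F
  let e : F ≃ₗ[R] (Fin (Fintype.card (Module.Free.ChooseBasisIndex R F)) → R) :=
    (b.reindex (Fintype.equivFin _)).equivFun
  have := LC16.CanonDual.subsingleton_H_free_lt (R := R) hn (Fintype.card (Module.Free.ChooseBasisIndex R F)) hj
  refine Function.Injective.subsingleton (f := Hmap (maximalIdeal R) j e.toLinearMap) fun a b h => ?_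
  have h2 := congrArg (Hmap (maximalIdeal R) j e.symm.toLinearMap) h
  rwa [LC16.Colim.Hmap_Hmap _ _ _ _ LinearMap.id (by ext; simp), LC16.Colim.Hmap_Hmap _ _ _ _ LinearMap.id (by ext; simp),
    Hmap_id, LinearMap.id_apply, LinearMap.id_apply] at h2

variable {K F M K' F' M' : Type u} [AddCommGroup K] [Module R K] [AddCommGroup F] [Module R F]
  [AddCommGroup M] [Module R M] [AddCommGroup K'] [Module R K'] [AddCommGroup F'] [Module R F']
  [AddCommGroup M'] [Module R M']
  {ι : K →ₗ[R] F} {π : F →ₗ[R] M} (hι : Function.Injective ι) (hex : Function.Exact ι π) (hπ : Function.Surjective π)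
  {ι' : K' →ₗ[R] F'} {π' : F' →ₗ[R] M'} (hι' : Function.Injective ι') (hex' : Function.Exact ι' π')
  (hπ' : Function.Surjective π')
  {f : M →ₗ[R] M'} {b : F →ₗ[R] F'} {g : K →ₗ[R] K'} (hb : b ∘ₗ ι = ι' ∘ₗ g) (hf : f ∘ₗ π = π' ∘ₗ b)
  [Module.Finite R F] [Module.Free R F] [Module.Finite R F'] [Module.Free R F']

include hι hex hπ hι' hex' hπ' hb hf

/-- below the top degree, killing the map of modules and of syzygies agree -/
theorem Hmap_shift_iff (hn : ringKrullDim R = n) {j : ℕ} (hj : j + 1 < n) :
    Hmap (maximalIdeal R) j f = 0 ↔ Hmap (maximalIdeal R) (j + 1) g = 0 := by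
  have hd := Hδ_bijective (maximalIdeal R) j hι hex hπ (subsingleton_H_finiteFree hn (by omega) F)
    (subsingleton_H_finiteFree hn hj F)
  have hd' := Hδ_bijective (maximalIdeal R) j hι' hex' hπ' (subsingleton_H_finiteFree hn (by omega) F')
    (subsingleton_H_finiteFree hn hj F')
  have hnat := LC16.Colim.Hδ_naturality (maximalIdeal R) j hι hex hπ hι' hex' hπ' g b f hb hf
  constructor
  · intro h
    refine LinearMap.ext fun y => ?_
    obtain ⟨x, rfl⟩ := hd.2 y
    rw [hnat, h, LinearMap.zero_apply, map_zero, LinearMap.zero_apply]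
  · intro h
    refine LinearMap.ext fun x => hd'.1 ?_
    rw [LinearMap.zero_apply, map_zero, ← hnat, h, LinearMap.zero_apply]

/-- killing the syzygy map kills the map -/
theorem Hmap_shift_of (hn : ringKrullDim R = n) {j : ℕ} (hj : j < n)
    (h : Hmap (maximalIdeal R) (j + 1) g = 0) : Hmap (maximalIdeal R) j f = 0 := by
  have hinj : Function.Injective (Hδ (maximalIdeal R) j hι' hex' hπ') := by
    refine (injective_iff_map_eq_zero _).2 fun y hy => ?_
    obtain ⟨z, rfl⟩ := (H_exact₃ (maximalIdeal R) j hι' hex' hπ' y).1 hy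
    rw [(subsingleton_H_finiteFree hn hj F').elim z 0, map_zero]
  refine LinearMap.ext fun x => hinj ?_
  rw [LinearMap.zero_apply, map_zero,
    ← LC16.Colim.Hδ_naturality (maximalIdeal R) j hι hex hπ hι' hex' hπ' g b f hb hf, h, LinearMap.zero_apply]

/-- the criterion one below the top degree -/
theorem Hmap_top_iff [Module.Finite R K] [Module.Finite R K'] {i : ℕ} (hn : ringKrullDim R = (i + 1 : ℕ)) :
    Hmap (maximalIdeal R) i f = 0 ↔ ∀ φ : K' →ₗ[R] R, ∃ e : F →ₗ[R] R, e ∘ₗ ι = φ ∘ₗ g := by
  haveI := Gor18.regular_gor R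
  haveI := Gor18.gor_cm R
  obtain ⟨f₀, hf₀⟩ := Gor18.exists_hull_H R (i + 1) hn
  haveI := hf₀.isInjective
  let eK := LinearMap.ringLmapEquivSelf R R (LocCoh.H (maximalIdeal R) (i + 1) R)
  have hinj : Function.Injective (Hδ (maximalIdeal R) i hι' hex' hπ') := by
    refine (injective_iff_map_eq_zero _).2 fun y hy => ?_
    obtain ⟨z, rfl⟩ := (H_exact₃ (maximalIdeal R) i hι' hex' hπ' y).1 hy
    rw [(subsingleton_H_finiteFree hn (Nat.lt_succ_self i) F').elim z 0, map_zero]
  have hnat := LC16.Colim.Hδ_naturality (maximalIdeal R) i hι hex hπ hι' hex' hπ' g b f hb hf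
  constructor
  · intro h φ
    by_contra hne
    let S : Submodule R (K →ₗ[R] R) := LinearMap.range (LinearMap.lcomp R R ι)
    have hx : (S.mkQ (φ ∘ₗ g)) ≠ 0 := fun h0 => by
      obtain ⟨e, he⟩ := (Submodule.Quotient.mk_eq_zero S).1 h0
      exact hne ⟨e, he⟩
    obtain ⟨ψ, hψ⟩ := InjHull18.exists_map_ne_zero hf₀ (x := S.mkQ (φ ∘ₗ g)) (fun r hr => by
      by_contra hrm
      exact hx ((IsLocalRing.notMem_maximalIdeal.1 hrm).smul_eq_zero.1 hr))
    let y := (LC16.CanonTop.topEquiv hn eK K).symm (ψ ∘ₗ S.mkQ)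
    have hy : Hmap (maximalIdeal R) (i + 1) ι y = 0 := by
      apply (LC16.CanonTop.topEquiv hn eK F).injective
      rw [LC16.CanonTop.topEquiv_natural, map_zero, LinearEquiv.apply_symm_apply]
      refine LinearMap.ext fun e => ?_
      show ψ (S.mkQ (LinearMap.lcomp R R ι e)) = 0
      rw [Submodule.mkQ_apply, (Submodule.Quotient.mk_eq_zero S).2 (LinearMap.mem_range_self _ e), map_zero]
    obtain ⟨x, hxy⟩ := (H_exact₁ (maximalIdeal R) i hι hex hπ y).1 hy
    have h1 : Hmap (maximalIdeal R) (i + 1) g y = 0 := by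
      rw [← hxy, hnat, h, LinearMap.zero_apply, map_zero]
    refine hψ ?_
    have h2 := LC16.CanonTop.topEquiv_natural hn eK g y
    rw [h1, map_zero, LinearEquiv.apply_symm_apply] at h2
    exact (LinearMap.congr_fun h2 φ).symm
  · intro h
    refine LinearMap.ext fun x => hinj ?_
    rw [LinearMap.zero_apply, map_zero, ← hnat]
    set y := Hδ (maximalIdeal R) i hι hex hπ x
    have hy : Hmap (maximalIdeal R) (i + 1) ι y = 0 :=
      (H_exact₁ (maximalIdeal R) i hι hex hπ).apply_apply_eq_zero x
    apply (LC16.CanonTop.topEquiv hn eK K').injective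
    rw [LC16.CanonTop.topEquiv_natural, map_zero]
    refine LinearMap.ext fun φ => ?_
    obtain ⟨e, he⟩ := h φ
    have h2 := LinearMap.congr_fun (LC16.CanonTop.topEquiv_natural hn eK ι y) e
    rw [hy, map_zero] at h2
    show LC16.CanonTop.topEquiv hn eK K y (LinearMap.lcomp R R g φ) = 0
    rw [show LinearMap.lcomp R R g φ = LinearMap.lcomp R R ι e from he.symm]
    exact h2.symm

end regular

section localize

variable {A : Type u} [CommRing A] [IsRegularLocalRing A] (P : Ideal A) [P.IsPrime]

/-- descend an extension from the localization -/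
theorem exists_smul_extends [IsNoetherianRing A] {K F K' : Type u} [AddCommGroup K] [Module A K]
    [Module.Finite A K] [AddCommGroup F] [Module A F] [Module.Finite A F] [AddCommGroup K'] [Module A K']
    (ι : K →ₗ[A] F) (g : K →ₗ[A] K') (φ : K' →ₗ[A] A)
    (h : ∀ ψ : LocalizedModule P.primeCompl K' →ₗ[Localization.AtPrime P] Localization.AtPrime P,
      ∃ e : LocalizedModule P.primeCompl F →ₗ[Localization.AtPrime P] Localization.AtPrime P,
        e ∘ₗ LocalizedModule.map P.primeCompl ι = ψ ∘ₗ LocalizedModule.map P.primeCompl g) :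
    ∃ s ∉ P, ∃ e : F →ₗ[A] A, e ∘ₗ ι = s • (φ ∘ₗ g) := by
  let AP := Localization.AtPrime P
  let S := P.primeCompl
  let ψ : LocalizedModule S K' →ₗ[AP] AP :=
    (IsLocalizedModule.mapExtendScalars S (LocalizedModule.mkLinearMap S K') (Algebra.linearMap A AP) AP φ)
  obtain ⟨e', he'⟩ := h ψ
  obtain ⟨e, s, hes⟩ := Module.FinitePresentation.exists_lift_of_isLocalizedModule (R := A) (M := F)
    (h := Module.finitePresentation_of_finite A F) S (Algebra.linearMap A AP)
    (e'.restrictScalars A ∘ₗ LocalizedModule.mkLinearMap S F)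
  have hker : ∀ k : K, ∃ t : S, (t : A) • (e (ι k) - (s : A) * φ (g k)) = 0 := fun k => by
    have h1 := LinearMap.congr_fun he' (LocalizedModule.mkLinearMap S K k)
    simp only [LinearMap.comp_apply, LocalizedModule.mkLinearMap_apply] at h1
    rw [LocalizedModule.map_mk, LocalizedModule.map_mk] at h1
    have h2 : ψ (LocalizedModule.mk (g k) 1) = algebraMap A AP (φ (g k)) :=
      IsLocalizedModule.map_apply S (LocalizedModule.mkLinearMap S K') (Algebra.linearMap A AP) φ (g k)
    have h3 := LinearMap.congr_fun hes (ι k)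
    simp only [LinearMap.comp_apply, LinearMap.smul_apply, LinearMap.restrictScalars_apply,
      LocalizedModule.mkLinearMap_apply, Algebra.linearMap_apply] at h3
    rw [h1, h2, Submonoid.smul_def, Algebra.smul_def, ← map_mul] at h3
    obtain ⟨t, ht⟩ := (IsLocalization.eq_iff_exists S AP).1 h3
    exact ⟨t, by rw [smul_eq_mul, mul_sub, ht, sub_self]⟩
  classical
  obtain ⟨G, hG⟩ := Module.Finite.fg_top (R := A) (M := K)
  choose t ht using hker
  let T : S := ∏ k ∈ G, t k
  refine ⟨(T : A) * (s : A), fun hm => ((‹P.IsPrime›.mem_or_mem hm).elim T.2 s.2), (T : A) • e, ?_⟩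
  refine LinearMap.ext_on (s := (G : Set K)) hG fun k hk => ?_
  obtain ⟨c, hc⟩ := Finset.dvd_prod_of_mem t hk
  simp only [LinearMap.comp_apply, LinearMap.smul_apply, smul_eq_mul]
  have := ht k
  rw [smul_eq_mul] at this
  have hcoe : (T : A) = (t k : A) * (c : A) := congrArg Subtype.val hc
  rw [hcoe]
  linear_combination (c : A) * this

section loc

variable {R : Type u} [CommRing R] (S : Submonoid R) {M N : Type u} [AddCommGroup M] [Module R M]
  [AddCommGroup N] [Module R N]

theorem loc_injective (f : M →ₗ[R] N) (hf : Function.Injective f) :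
    Function.Injective (LocalizedModule.map S f) := by
  intro x y hxy
  induction x using LocalizedModule.induction_on with | h a s => ?_
  induction y using LocalizedModule.induction_on with | h b t => ?_
  rw [LocalizedModule.map_mk, LocalizedModule.map_mk, LocalizedModule.mk_eq] at hxy
  obtain ⟨c, hc⟩ := hxy
  refine LocalizedModule.mk_eq.2 ⟨c, hf ?_⟩
  simpa only [Submonoid.smul_def, map_smul] using hc

theorem loc_surjective (f : M →ₗ[R] N) (hf : Function.Surjective f) :
    Function.Surjective (LocalizedModule.map S f) := by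
  intro y
  induction y using LocalizedModule.induction_on with | h b t => ?_
  obtain ⟨a, rfl⟩ := hf b
  exact ⟨LocalizedModule.mk a t, LocalizedModule.map_mk S f a t⟩

theorem loc_exact {Q : Type u} [AddCommGroup Q] [Module R Q] (g : M →ₗ[R] N) (h : N →ₗ[R] Q)
    (hex : Function.Exact g h) : Function.Exact (LocalizedModule.map S g) (LocalizedModule.map S h) := by
  intro y
  induction y using LocalizedModule.induction_on with | h b t => ?_
  constructor
  · intro hy
    rw [LocalizedModule.map_mk, ← LocalizedModule.zero_mk t, LocalizedModule.mk_eq] at hy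
    obtain ⟨c, hc⟩ := hy
    simp only [Submonoid.smul_def, smul_zero] at hc
    obtain ⟨a, ha⟩ := (hex ((c : R) • (t : R) • b)).1 (by rw [map_smul, map_smul]; exact hc)
    refine ⟨LocalizedModule.mk a (c * t * t), ?_⟩
    rw [LocalizedModule.map_mk, ha, LocalizedModule.mk_eq]
    exact ⟨1, by simp only [one_smul, Submonoid.smul_def, Submonoid.coe_mul, smul_smul]; congr 1; ring⟩
  · rintro ⟨x, hx⟩
    rw [← hx]
    induction x using LocalizedModule.induction_on with | h a s => ?_
    rw [LocalizedModule.map_mk, LocalizedModule.map_mk, hex.apply_apply_eq_zero, LocalizedModule.zero_mk]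

theorem loc_square {M' N' : Type u} [AddCommGroup M'] [Module R M'] [AddCommGroup N'] [Module R N']
    (f : M →ₗ[R] N) (f' : M' →ₗ[R] N') (a : M →ₗ[R] M') (b : N →ₗ[R] N') (h : b ∘ₗ f = f' ∘ₗ a) :
    LocalizedModule.map S b ∘ₗ LocalizedModule.map S f =
      LocalizedModule.map S f' ∘ₗ LocalizedModule.map S a := by
  refine LinearMap.ext fun x => ?_
  induction x using LocalizedModule.induction_on with | h m s => ?_
  simp only [LinearMap.comp_apply, LocalizedModule.map_mk]
  rw [← LinearMap.comp_apply b, h, LinearMap.comp_apply]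

end loc

section steps

variable {R : Type u} [CommRing R] [IsRegularLocalRing R] {K F M K' F' M' : Type u}
  [AddCommGroup K] [Module R K] [Module.Finite R K] [AddCommGroup F] [Module R F] [Module.Finite R F] [Module.Free R F]
  [AddCommGroup M] [Module R M] [AddCommGroup K'] [Module R K'] [Module.Finite R K'] [AddCommGroup F'] [Module R F']
  [Module.Finite R F'] [Module.Free R F'] [AddCommGroup M'] [Module R M']
  {ι : K →ₗ[R] F} {π : F →ₗ[R] M} (hι : Function.Injective ι) (hex : Function.Exact ι π) (hπ : Function.Surjective π)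
  {ι' : K' →ₗ[R] F'} {π' : F' →ₗ[R] M'} (hι' : Function.Injective ι') (hex' : Function.Exact ι' π')
  (hπ' : Function.Surjective π')
  {f : M →ₗ[R] M'} {b : F →ₗ[R] F'} {g : K →ₗ[R] K'} (hb : b ∘ₗ ι = ι' ∘ₗ g) (hf : f ∘ₗ π = π' ∘ₗ b)
include hι hex hπ hι' hex' hπ' hb hf

/-- extensions exist at the first step, whatever the dimension -/
theorem exists_ext_of {h : ℕ} (hh : ringKrullDim R = h)
    (hyp : 1 ≤ h → Hmap (maximalIdeal R) (h - 1) f = 0) (φ : K' →ₗ[R] R) :
    ∃ e : F →ₗ[R] R, e ∘ₗ ι = φ ∘ₗ g := by
  rcases h with _ | i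
  · haveI := CAlg1.isDomain_regular R
    haveI : Ring.KrullDimLE 0 R := Ring.krullDimLE_iff.2 hh.le
    letI := (Ring.KrullDimLE.isField_of_isDomain (R := R)).toField
    obtain ⟨q, hq⟩ := ι.exists_leftInverse_of_injective (LinearMap.ker_eq_bot.2 hι)
    exact ⟨(φ ∘ₗ g) ∘ₗ q, by rw [LinearMap.comp_assoc, hq, LinearMap.comp_id]⟩
  · exact (Hmap_top_iff hι hex hπ hι' hex' hπ' hb hf hh).1 (hyp (by omega)) φ

/-- descending one step -/
theorem Hmap_syzygy_of {h k : ℕ} (hh : ringKrullDim R = h) (hk : 1 ≤ k) (hkh : k ≤ h)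
    (hyp : k + 1 ≤ h → Hmap (maximalIdeal R) (h - (k + 1)) f = 0) :
    Hmap (maximalIdeal R) (h - k) g = 0 := by
  rcases Nat.lt_or_ge k h with hlt | hge
  · rw [show h - k = (h - (k + 1)) + 1 by omega]
    exact (Hmap_shift_iff hι hex hπ hι' hex' hπ' hb hf hh (by omega)).1 (hyp (by omega))
  · rw [show h - k = 0 by omega]
    haveI := subsingleton_H_finiteFree hh (show 0 < h by omega) F
    have h0 := (Hmap_zero_injective (maximalIdeal R) hι).subsingleton
    exact LinearMap.ext fun y => by rw [h0.elim y 0, map_zero, map_zero]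

end steps

/-- killed at the localization implies killed globally up to an element outside the prime -/
theorem exists_smul_Hmap_eq_zero {n h : ℕ} (hn : ringKrullDim A = n) (hh : ringKrullDim (Localization.AtPrime P) = h)
    [IsRegularLocalRing (Localization.AtPrime P)] :
    ∀ k : ℕ, 1 ≤ k → k ≤ n → ∀ (M M' : Type u) [AddCommGroup M] [Module A M] [Module.Finite A M]
      [AddCommGroup M'] [Module A M'] [Module.Finite A M'] (f : M →ₗ[A] M'),
      (k ≤ h → Hmap (maximalIdeal (Localization.AtPrime P)) (h - k) (LocalizedModule.map P.primeCompl f) = 0) →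
      ∃ s ∉ P, Hmap (maximalIdeal A) (n - k) (s • f) = 0 := by
  intro k hk
  induction k, hk using Nat.le_induction with
  | base =>
    intro hn1 M M' _ _ _ _ _ _ f hyp
    obtain ⟨a, π, hπ⟩ := Module.Finite.exists_fin' A M
    obtain ⟨a', π', hπ'⟩ := Module.Finite.exists_fin' A M'
    obtain ⟨b, hb⟩ := Module.projective_lifting_property π' (f ∘ₗ π) hπ'
    have hgb : ∀ x : LinearMap.ker π, b x.1 ∈ LinearMap.ker π' := fun x => by
      rw [LinearMap.mem_ker, ← LinearMap.comp_apply, hb, LinearMap.comp_apply, LinearMap.mem_ker.1 x.2, map_zero]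
    let g : LinearMap.ker π →ₗ[A] LinearMap.ker π' := LinearMap.codRestrict _ (b ∘ₗ (LinearMap.ker π).subtype) hgb
    let ι := (LinearMap.ker π).subtype
    let ι' := (LinearMap.ker π').subtype
    have hex : Function.Exact ι π := LinearMap.exact_subtype_ker_map π
    have hex' : Function.Exact ι' π' := LinearMap.exact_subtype_ker_map π'
    let S := P.primeCompl
    let AP := Localization.AtPrime P
    have hc1 : b ∘ₗ ι = ι' ∘ₗ g := LinearMap.ext fun x => rfl
    haveI : Module.Free AP (LocalizedModule S (Fin a → A)) :=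
      Module.free_of_isLocalizedModule S (LocalizedModule.mkLinearMap S (Fin a → A))
    haveI : Module.Free AP (LocalizedModule S (Fin a' → A)) :=
      Module.free_of_isLocalizedModule S (LocalizedModule.mkLinearMap S (Fin a' → A))
    have hext := fun ψ => exists_ext_of (R := AP) (loc_injective S ι (LinearMap.ker π).injective_subtype)
      (loc_exact S ι π hex) (loc_surjective S π hπ)
      (loc_injective S ι' (LinearMap.ker π').injective_subtype)
      (loc_exact S ι' π' hex') (loc_surjective S π' hπ')
      (loc_square S ι ι' g b hc1) (loc_square S π π' b f hb.symm) hh hyp ψ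
    obtain ⟨G, hG⟩ := Module.Finite.fg_top (R := A) (M := LinearMap.ker π' →ₗ[A] A)
    choose s hs e he using fun φ => exists_smul_extends P ι g φ hext
    refine ⟨∏ φ ∈ G, s φ, fun hm => ?_, ?_⟩
    · obtain ⟨φ, -, hφ⟩ := (Ideal.IsPrime.prod_mem_iff (p := P)).1 hm
      exact hs φ hφ
    · set T := ∏ φ ∈ G, s φ with hT
      obtain ⟨i, hi⟩ : ∃ i, n = i + 1 := ⟨n - 1, by omega⟩
      rw [show n - 1 = i by omega]
      refine (Hmap_top_iff (LinearMap.ker π).injective_subtype hex hπ (LinearMap.ker π').injective_subtype hex' hπ'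
        (f := T • f) (b := T • b) (g := T • g) ?_ ?_ (by rw [hn, hi])).2 fun φ => ?_
      · refine LinearMap.ext fun x => ?_
        simp only [LinearMap.comp_apply, LinearMap.smul_apply, map_smul]
        rfl
      · rw [LinearMap.smul_comp, LinearMap.comp_smul, hb]
      · have hφ : φ ∈ Submodule.span A (G : Set (LinearMap.ker π' →ₗ[A] A)) := hG ▸ Submodule.mem_top
        induction hφ using Submodule.span_induction with
        | mem φ hφ =>
          classical
          obtain ⟨c, hc⟩ := Finset.dvd_prod_of_mem s hφ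
          refine ⟨c • e φ, ?_⟩
          rw [LinearMap.smul_comp, he, LinearMap.comp_smul, smul_smul, mul_comm, ← hc]
        | zero => exact ⟨0, by simp⟩
        | add φ φ' _ _ h1 h2 =>
          obtain ⟨e1, he1⟩ := h1
          obtain ⟨e2, he2⟩ := h2
          exact ⟨e1 + e2, by rw [LinearMap.add_comp, he1, he2, LinearMap.add_comp]⟩
        | smul r φ _ h1 =>
          obtain ⟨e1, he1⟩ := h1
          exact ⟨r • e1, by rw [LinearMap.smul_comp, he1, LinearMap.smul_comp]⟩
  | succ k hk ih =>
    intro hkn M M' _ _ _ _ _ _ f hyp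
    obtain ⟨a, π, hπ⟩ := Module.Finite.exists_fin' A M
    obtain ⟨a', π', hπ'⟩ := Module.Finite.exists_fin' A M'
    obtain ⟨b, hb⟩ := Module.projective_lifting_property π' (f ∘ₗ π) hπ'
    have hgb : ∀ x : LinearMap.ker π, b x.1 ∈ LinearMap.ker π' := fun x => by
      rw [LinearMap.mem_ker, ← LinearMap.comp_apply, hb, LinearMap.comp_apply, LinearMap.mem_ker.1 x.2, map_zero]
    let g : LinearMap.ker π →ₗ[A] LinearMap.ker π' := LinearMap.codRestrict _ (b ∘ₗ (LinearMap.ker π).subtype) hgb
    let ι := (LinearMap.ker π).subtype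
    let ι' := (LinearMap.ker π').subtype
    have hex : Function.Exact ι π := LinearMap.exact_subtype_ker_map π
    have hex' : Function.Exact ι' π' := LinearMap.exact_subtype_ker_map π'
    let S := P.primeCompl
    let AP := Localization.AtPrime P
    haveI : Module.Free AP (LocalizedModule S (Fin a → A)) :=
      Module.free_of_isLocalizedModule S (LocalizedModule.mkLinearMap S (Fin a → A))
    haveI : Module.Free AP (LocalizedModule S (Fin a' → A)) :=
      Module.free_of_isLocalizedModule S (LocalizedModule.mkLinearMap S (Fin a' → A))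
    have hc1 : b ∘ₗ ι = ι' ∘ₗ g := LinearMap.ext fun x => rfl
    obtain ⟨s, hsP, hs⟩ := ih (by omega) (LinearMap.ker π) (LinearMap.ker π') g (fun hkh =>
      Hmap_syzygy_of (R := AP) (loc_injective S ι (LinearMap.ker π).injective_subtype)
        (loc_exact S ι π hex) (loc_surjective S π hπ)
        (loc_injective S ι' (LinearMap.ker π').injective_subtype)
        (loc_exact S ι' π' hex') (loc_surjective S π' hπ')
        (loc_square S ι ι' g b hc1) (loc_square S π π' b f hb.symm) hh hk hkh hyp)
    refine ⟨s, hsP, Hmap_shift_of (LinearMap.ker π).injective_subtype hex hπ (LinearMap.ker π').injective_subtype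
      hex' hπ' (f := s • f) (b := s • b) (g := s • g) ?_ ?_ hn (by omega) ?_⟩
    · refine LinearMap.ext fun x => ?_
      simp only [LinearMap.comp_apply, LinearMap.smul_apply, map_smul]
      rfl
    · rw [LinearMap.smul_comp, LinearMap.comp_smul, hb]
    · rw [show n - (k + 1) + 1 = n - k by omega]
      exact hs

end localize

end Groth.Agent.LC17.HL
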