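import Groth.Agent.LC16.CechFam
import Groth.Agent.LC16.Colim
import Mathlib.Algebra.Homology.HomologySequenceLemmas

/-!
A map of modules kills extended Čech cohomology exactly when it kills local cohomology.
-/

set_option autoImplicit false

universe u

open CategoryTheory CategoryTheory.Limits

namespace Groth.Agent.LC17.HL

open LC15 LC16.CechPairs LC16.CechFam

variable {R : Type u} [CommRing R] [IsNoetherianRing R] (fs : List R)

omit [IsNoetherianRing R] in
theorem Cmap_comp : ∀ (fs : List R) {M N L : ModuleCat.{u} R} (g : M ⟶ N) (h : N ⟶ L) (n : ℤ)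
    (x : (C fs M).X n), ((Cmap fs h).f n).hom (((Cmap fs g).f n).hom x) = ((Cmap fs (g ≫ h)).f n).hom x := by
  intro fs
  induction fs with
  | nil =>
    intro M N L g h n x
    have e := (Functor.map_comp (HomologicalComplex.single (ModuleCat.{u} R) (ComplexShape.up ℤ) 0) g h).symm
    exact congrArg (fun ψ : C [] M ⟶ C [] L => (ψ.f n).hom x) e
  | cons f fs ih =>
    intro M N L g h n x
    apply (pairs f fs L n (n - 1) (by omega)).injective
    rw [pairs_Cmap f fs h n (n - 1) (by omega), pairs_Cmap f fs g n (n - 1) (by omega),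
      pairs_Cmap f fs (g ≫ h) n (n - 1) (by omega), ih]
    refine Prod.ext rfl ?_
    show IsLocalizedModule.map _ _ _ _ (IsLocalizedModule.map _ _ _ _ _) = _
    rw [← LinearMap.comp_apply, ← IsLocalizedModule.map_comp']
    exact congrArg (fun φ => IsLocalizedModule.map (Submonoid.powers f) (LocalizedModule.mkLinearMap _ _)
      (LocalizedModule.mkLinearMap _ _) φ (pairs f fs M n (n - 1) (by omega) x).2)
      (LinearMap.ext fun y => ih g h (n - 1) y)

omit [IsNoetherianRing R] in
/-- naturality of the connecting map of Čech cohomology -/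
theorem delta_natural {M N L M' N' L' : ModuleCat.{u} R} {f : M →ₗ[R] N} {g : N →ₗ[R] L}
    (hf : Function.Injective f) (h : Function.Exact f g) (hg : Function.Surjective g)
    {f' : M' →ₗ[R] N'} {g' : N' →ₗ[R] L'} (hf' : Function.Injective f') (h' : Function.Exact f' g')
    (hg' : Function.Surjective g') (a : M →ₗ[R] M') (b : N →ₗ[R] N') (c : L →ₗ[R] L')
    (h₁ : b ∘ₗ f = f' ∘ₗ a) (h₂ : c ∘ₗ g = g' ∘ₗ b) (i : ℕ) (y : T fs i L) :
    Tmap fs (i + 1) a (delta fs f g hf h hg i y) = delta fs f' g' hf' h' hg' i (Tmap fs i c y) := by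
  let φ : seq fs f g hf h hg ⟶ seq fs f' g' hf' h' hg' :=
    ⟨Cmap fs (ModuleCat.ofHom a), Cmap fs (ModuleCat.ofHom b), Cmap fs (ModuleCat.ofHom c),
      HomologicalComplex.hom_ext _ _ fun n => ModuleCat.hom_ext (LinearMap.ext fun x =>
        (Cmap_comp fs _ _ n x).trans (Eq.trans (congrArg (fun z => ((Cmap fs z).f n).hom x)
          (show ModuleCat.ofHom a ≫ ModuleCat.ofHom f' = ModuleCat.ofHom f ≫ ModuleCat.ofHom b from
            ModuleCat.hom_ext h₁.symm)) (Cmap_comp fs _ _ n x).symm)),
      HomologicalComplex.hom_ext _ _ fun n => ModuleCat.hom_ext (LinearMap.ext fun x =>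
        (Cmap_comp fs _ _ n x).trans (Eq.trans (congrArg (fun z => ((Cmap fs z).f n).hom x)
          (show ModuleCat.ofHom b ≫ ModuleCat.ofHom g' = ModuleCat.ofHom g ≫ ModuleCat.ofHom c from
            ModuleCat.hom_ext h₂.symm)) (Cmap_comp fs _ _ n x).symm))⟩
  exact congrArg (fun ψ => ψ.hom y) (HomologicalComplex.HomologySequence.δ_naturality φ
    (seq_shortExact fs f g hf h hg) (seq_shortExact fs f' g' hf' h' hg') (i : ℤ) ((i + 1 : ℕ) : ℤ) (by simp))

/-- the two notions of killing agree -/
theorem Tmap_zero_iff : ∀ (i : ℕ) (M N : ModuleCat.{u} R) (f : M →ₗ[R] N),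
    Tmap fs i f = 0 ↔ Hmap (Ideal.span {x | x ∈ fs}) i f = 0 := by
  intro i
  induction i with
  | zero =>
    intro M N f
    constructor
    · intro h
      refine LinearMap.ext fun y => h0_injective _ _ ?_
      rw [h0_Hmap, LinearMap.zero_apply, map_zero]
      obtain ⟨x, hx⟩ := (zeroEquiv fs M).surjective (H0equiv _ M y)
      have h2 := zeroEquiv_natural fs f x
      rw [h, LinearMap.zero_apply, map_zero, hx] at h2
      exact (congrArg Subtype.val h2).symm
    · intro h
      refine LinearMap.ext fun x => (zeroEquiv fs N).injective ?_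
      rw [zeroEquiv_natural, LinearMap.zero_apply, map_zero]
      apply Subtype.ext
      obtain ⟨y, hy⟩ := (H0equiv (Ideal.span {x | x ∈ fs}) M).surjective (zeroEquiv fs M x)
      show f (zeroEquiv fs M x : M) = 0
      rw [← hy, H0equiv_coe, ← h0_Hmap, h, LinearMap.zero_apply, map_zero]
  | succ i ih =>
    intro M N f
    set I := Ideal.span {x | x ∈ fs} with hI
    obtain ⟨E, _, _, u, hu, hE⟩ := exists_injective_embedding (R := R) M
    obtain ⟨E', _, _, u', hu', hE'⟩ := exists_injective_embedding (R := R) N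
    obtain ⟨e, he⟩ := hE'.out _ hu (u' ∘ₗ f)
    have hle : LinearMap.range u ≤ (LinearMap.range u').comap e := by
      rintro _ ⟨m, rfl⟩
      exact ⟨f m, (he m).symm⟩
    let q := (LinearMap.range u).mapQ (LinearMap.range u') e hle
    let g := (LinearMap.range u).mkQ
    let g' := (LinearMap.range u').mkQ
    have hex : Function.Exact u g := LinearMap.exact_map_mkQ_range u
    have hex' : Function.Exact u' g' := LinearMap.exact_map_mkQ_range u'
    have hg : Function.Surjective g := Submodule.mkQ_surjective _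
    have hg' : Function.Surjective g' := Submodule.mkQ_surjective _
    have h₁ : e ∘ₗ u = u' ∘ₗ f := LinearMap.ext he
    have h₂ : q ∘ₗ g = g' ∘ₗ e := LinearMap.ext fun x => rfl
    let EM := ModuleCat.of R E
    let EN := ModuleCat.of R E'
    let CM := ModuleCat.of R (E ⧸ LinearMap.range u)
    let CN := ModuleCat.of R (E' ⧸ LinearMap.range u')
    let dT := delta fs (M := M) (N := EM) (L := CM) u g hu hex hg i
    let dT' := delta fs (M := N) (N := EN) (L := CN) u' g' hu' hex' hg' i
    haveI : Module.Injective R EM := hE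
    haveI : Module.Injective R EN := hE'
    have sT : Function.Surjective dT := fun y =>
      (exact_delta_map fs (M := M) (N := EM) (L := CM) u g hu hex hg i y).1
        ((ModuleCat.subsingleton_of_isZero (isZero_homology fs EM ((i + 1 : ℕ) : ℤ) (by simp))).elim _ _)
    have sH : Function.Surjective (Hδ I i hu hex hg) :=
      Hδ_surjective I i hu hex hg (subsingleton_H_succ_of_injective I i)
    have kT : ∀ z, dT' z = 0 ↔ z ∈ LinearMap.range (Tmap fs i (M := EN) (N := CN) g') := fun z =>
      (exact_map_delta fs (M := N) (N := EN) (L := CN) u' g' hu' hex' hg' i z)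
    have kH : ∀ z, Hδ I i hu' hex' hg' z = 0 ↔ z ∈ LinearMap.range (Hmap I i g') := fun z =>
      H_exact₃ I i hu' hex' hg' z
    have nT : ∀ y, Tmap fs (i + 1) f (dT y) = dT' (Tmap fs i (M := CM) (N := CN) q y) :=
      delta_natural fs (M := M) (N := EM) (L := CM) (M' := N) (N' := EN) (L' := CN) hu hex hg hu' hex' hg' f e q h₁ h₂ i
    have nH : ∀ y, Hmap I (i + 1) f (Hδ I i hu hex hg y) = Hδ I i hu' hex' hg' (Hmap I i q y) :=
      LC16.Colim.Hδ_naturality I i hu hex hg hu' hex' hg' f e q h₁ h₂
    have eT : Tmap fs (i + 1) f = 0 ↔ ∀ y, Tmap fs i (M := CM) (N := CN) q y ∈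
        LinearMap.range (Tmap fs i (M := EN) (N := CN) g') := by
      constructor
      · intro h y; rw [← kT, ← nT, h, LinearMap.zero_apply]
      · intro h; refine LinearMap.ext fun z => ?_
        obtain ⟨y, rfl⟩ := sT z
        rw [nT, LinearMap.zero_apply]; exact (kT _).2 (h y)
    have eH : Hmap I (i + 1) f = 0 ↔ ∀ y, Hmap I i q y ∈ LinearMap.range (Hmap I i g') := by
      constructor
      · intro h y; rw [← kH, ← nH, h, LinearMap.zero_apply]
      · intro h; refine LinearMap.ext fun z => ?_
        obtain ⟨y, rfl⟩ := sH z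
        rw [nH, LinearMap.zero_apply]; exact (kH _).2 (h y)
    rw [eT, eH]
    rcases i with _ | i
    · let zM := zeroEquiv fs CM
      let zH := H0equiv I (E ⧸ LinearMap.range u)
      have key : ∀ (x : T fs 0 CM) (y : LocCoh.H I 0 (E ⧸ LinearMap.range u)), zM x = zH y →
          (Tmap fs 0 (M := CM) (N := CN) q x ∈ LinearMap.range (Tmap fs 0 (M := EN) (N := CN) g') ↔
            Hmap I 0 q y ∈ LinearMap.range (Hmap I 0 g')) := by
        intro x y hxy
        have hv : q (h0 I _ y) = (zeroEquiv fs CN (Tmap fs 0 (M := CM) (N := CN) q x) : E' ⧸ LinearMap.range u') := by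
          rw [zeroEquiv_natural, ← H0equiv_coe]
          exact congrArg q (congrArg Subtype.val hxy).symm
        constructor
        · rintro ⟨a, ha⟩
          obtain ⟨b, hb⟩ := (H0equiv I E').surjective (zeroEquiv fs EN a)
          refine ⟨b, h0_injective I _ ?_⟩
          rw [h0_Hmap, h0_Hmap, hv, ← ha, zeroEquiv_natural, ← H0equiv_coe, hb]
          rfl
        · rintro ⟨b, hb⟩
          obtain ⟨a, ha⟩ := (zeroEquiv fs EN).surjective (H0equiv I E' b)
          refine ⟨a, (zeroEquiv fs CN).injective (Subtype.ext ?_)⟩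
          rw [← hv, ← h0_Hmap, ← hb, h0_Hmap, zeroEquiv_natural, ha, ← H0equiv_coe]
          rfl
      constructor
      · intro h y
        obtain ⟨x, hx⟩ := zM.surjective (zH y)
        exact (key x y hx).1 (h x)
      · intro h x
        obtain ⟨y, hy⟩ := zH.surjective (zM x)
        exact (key x y hy.symm).2 (h y)
    · have vT : ∀ z, Tmap fs (i + 1) (M := EN) (N := CN) g' z = 0 := fun z => by
        rw [(ModuleCat.subsingleton_of_isZero (isZero_homology fs EN ((i + 1 : ℕ) : ℤ) (by simp))).elim z 0,
          map_zero]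
      have vH : ∀ z, Hmap I (i + 1) g' z = 0 := fun z => by
        rw [(subsingleton_H_succ_of_injective I i (M := E')).elim z 0, map_zero]
      have h0T : LinearMap.range (Tmap fs (i + 1) (M := EN) (N := CN) g') = ⊥ :=
        LinearMap.range_eq_bot.2 (LinearMap.ext vT)
      have h0H : LinearMap.range (Hmap I (i + 1) g') = ⊥ := LinearMap.range_eq_bot.2 (LinearMap.ext vH)
      simp only [h0T, h0H, Submodule.mem_bot]
      constructor
      · intro h y; rw [(ih CM CN q).1 (LinearMap.ext h)]; rfl
      · intro h y; rw [(ih CM CN q).2 (LinearMap.ext h)]; rfl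

end Groth.Agent.LC17.HL
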