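import Groth.Agent.LC17.HL.CochH
import Groth.Agent.LC17.HL.ZeroIff
import Groth.Agent.LC17.FiniteLengthArtin
import Groth.Agent.LC15.Artin

/-!
A finite length image in local cohomology dies in a bigger finite extension.
-/

set_option autoImplicit false
set_option backward.isDefEq.respectTransparency.types false

universe u

open IsLocalRing

namespace Groth.Agent.LC17.HL

open LC15 LC16.CechPairs LC16.CechFam

variable {A : Type u} [CommRing A] {L : Type u} [Field L] [Algebra A L]

theorem IsBdy.add {fs : List A} {T : Submodule A L} {n : ℤ} {c c' : W L} (h : IsBdy fs T n c)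
    (h' : IsBdy fs T n c') : IsBdy fs T n (c + c') := by
  obtain ⟨b, hb1, hb2, hb3⟩ := h
  obtain ⟨b', hb1', hb2', hb3'⟩ := h'
  refine ⟨b + b', fun l hl => ?_, hb2.add hb2', by rw [δ_add, hb3, hb3']⟩
  by_cases h : b l = 0
  · exact hb1' l fun h' => hl (by simp [h, h'])
  · exact hb1 l h

theorem isBdy_zero (fs : List A) (T : Submodule A L) (n : ℤ) : IsBdy fs T n (0 : W L) :=
  ⟨0, fun l hl => absurd rfl hl, mem_zero _ _, δ_zero _⟩

theorem IsBdy.smul {fs : List A} {T : Submodule A L} {n : ℤ} {c : W L} (h : IsBdy fs T n c) (a : A) :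
    IsBdy fs T n (a • c) := by
  obtain ⟨b, hb1, hb2, hb3⟩ := h
  refine ⟨a • b, fun l hl => hb1 l fun h => hl (by simp [h]), hb2.smul a, ?_⟩
  rw [← δL_apply (R := A), map_smul, δL_apply, hb3]

theorem IsBdy.mono {fs : List A} {T T' : Submodule A L} (hle : T ≤ T') {n : ℤ} {c : W L}
    (h : IsBdy fs T n c) : IsBdy fs T' n c :=
  h.imp fun _ hb => ⟨hb.1, hb.2.1.mono hle, hb.2.2⟩

theorem isBdy_sum {ι : Type*} (s : Finset ι) {fs : List A} {T : Submodule A L} {n : ℤ} (c : ι → W L)
    (h : ∀ i ∈ s, IsBdy fs T n (c i)) : IsBdy fs T n (∑ i ∈ s, c i) :=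
  Finset.sum_induction c (IsBdy fs T n) (fun _ _ => IsBdy.add) (isBdy_zero _ _ _) h

/-- finitely many bounding cochains live in a finite extension -/
theorem exists_finite_isBdy {ι : Type u} [Finite ι] (fs : List A) (T : Subalgebra A L) [Module.Finite A T]
    (n : ℤ) (c : ι → W L) (h : ∀ i, IsBdy fs (Subalgebra.toSubmodule (integralClosure A L)) n (c i)) :
    ∃ T' : Subalgebra A L, T ≤ T' ∧ Module.Finite A T' ∧ ∀ i, IsBdy fs (Subalgebra.toSubmodule T') n (c i) := by
  classical
  choose b hb1 hb2 hb3 using h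
  choose k hk using hb2
  haveI := Fintype.ofFinite ι
  have hfin : {l : List Bool | l.length = fs.length}.Finite := List.finite_length_eq Bool fs.length
  let S : Finset L := Finset.univ.biUnion fun i =>
    hfin.toFinset.image fun l => algebraMap A L (selProd fs l ^ k i l) * b i l
  have hS : ∀ x ∈ (S : Set L), IsIntegral A x := by
    intro x hx
    simp only [S, Finset.coe_biUnion, Finset.coe_image, Set.mem_iUnion, Set.mem_image] at hx
    obtain ⟨i, -, l, -, rfl⟩ := hx
    exact hk i l
  have hfg : (Subalgebra.toSubmodule (Algebra.adjoin A (S : Set L))).FG :=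
    fg_adjoin_of_finite S.finite_toSet hS
  haveI : Module.Finite A (Algebra.adjoin A (S : Set L)) := Module.Finite.iff_fg.2 hfg
  refine ⟨T ⊔ Algebra.adjoin A (S : Set L), le_sup_left, Subalgebra.finite_sup T _, fun i => ?_⟩
  refine ⟨b i, hb1 i, fun l => ⟨k i l, ?_⟩, hb3 i⟩
  by_cases hl : b i l = 0
  · rw [hl, mul_zero]; exact zero_mem _
  · refine (le_sup_right : Algebra.adjoin A (S : Set L) ≤ T ⊔ _) (Algebra.subset_adjoin ?_)
    simp only [S, Finset.coe_biUnion, Finset.coe_image, Set.mem_iUnion, Set.mem_image]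
    exact ⟨i, Finset.mem_univ i, l, hfin.mem_toFinset.2 (hb1 i l hl).1, rfl⟩

variable [IsNoetherianRing A] [IsLocalRing A] (fs : List A) (hspan : Ideal.span {x | x ∈ fs} = maximalIdeal A)
  (hu : ∀ f ∈ fs, algebraMap A L f ≠ 0)
include hspan hu

/-- killing in local cohomology read on cocycles -/
theorem Hmap_zero_iff_isBdy (M N : Submodule A L) (hle : M ≤ N) (i : ℕ) :
    Hmap (maximalIdeal A) i (Submodule.inclusion hle) = 0 ↔
      ∀ c, IsCoc fs M i c → IsBdy fs N i c := by
  have h1 := Tmap_eq_zero_iff fs hu (M := ModuleCat.of A M) (M' := ModuleCat.of A N) M.subtype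
    M.injective_subtype N.subtype N.injective_subtype (Submodule.inclusion hle) rfl i
  rw [Submodule.range_subtype, Submodule.range_subtype] at h1
  have h2 := Tmap_zero_iff fs i (ModuleCat.of A M) (ModuleCat.of A N) (Submodule.inclusion hle)
  rw [← h1, h2, hspan]

theorem smul_isBdy {M N : Submodule A L} (hle : M ≤ N) (i : ℕ) {a : A}
    (ha : Hmap (maximalIdeal A) i (a • Submodule.inclusion hle) = 0) {c : W L} (hc : IsCoc fs M i c) :
    IsBdy fs N i (a • c) := by
  by_cases ha0 : algebraMap A L a = 0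
  · have : a • c = 0 := funext fun l => by rw [Pi.smul_apply, Algebra.smul_def, ha0, zero_mul]; rfl
    rw [this]; exact isBdy_zero _ _ _
  let φ : L →ₗ[A] L := LinearMap.lsmul A L a
  have hφ : Function.Injective φ := fun x y h => by
    simp only [φ, LinearMap.lsmul_apply, Algebra.smul_def] at h
    exact mul_left_cancel₀ ha0 h
  let M' := M.map φ
  have hle' : M' ≤ N := Submodule.map_le_iff_le_comap.2 fun m hm => N.smul_mem a (hle hm)
  let e : M ≃ₗ[A] M' := Submodule.equivMapOfInjective φ hφ M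
  have hfac : Hmap (maximalIdeal A) i (Submodule.inclusion hle') = 0 := by
    refine LinearMap.ext fun y => ?_
    have hy : y = Hmap (maximalIdeal A) i e.toLinearMap (Hmap (maximalIdeal A) i e.symm.toLinearMap y) := by
      rw [LC16.Colim.Hmap_Hmap _ _ _ _ LinearMap.id (by ext; simp), Hmap_id, LinearMap.id_apply]
    rw [hy, LC16.Colim.Hmap_Hmap _ _ _ _ (a • Submodule.inclusion hle) (by ext x; rfl), ha]
    rfl
  refine (Hmap_zero_iff_isBdy fs hspan hu M' N hle' i).1 hfac (a • c) ⟨fun l hl => hc.1 l fun h => hl (by simp [h]),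
    fun l => ?_, by rw [← δL_apply (R := A), map_smul, δL_apply, hc.2.2, smul_zero]⟩
  obtain ⟨k, hk⟩ := hc.2.1 l
  refine ⟨k, ⟨_, hk, ?_⟩⟩
  simp only [φ, LinearMap.lsmul_apply, Pi.smul_apply, Algebra.smul_def]
  ring

theorem isArtinian_cech (N : Submodule A L) [Module.Finite A N] (i : ℕ) :
    IsArtinian A (LC16.CechFam.T fs i (ModuleCat.of A N) : Type u) := by
  obtain ⟨e⟩ := LC16.CechFam.nonempty_equiv fs i N
  haveI : IsArtinian A (LocCoh.H (Ideal.span {x : A | x ∈ fs}) i N) :=
    hspan.symm ▸ isArtinian_H_maximalIdeal (R := A) i N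
  exact isArtinian_of_injective e.toLinearMap e.injective

theorem smul_cls_eq_zero {M N : Submodule A L} (hle : M ≤ N) (i : ℕ) {a : A}
    (ha : Hmap (maximalIdeal A) i (a • Submodule.inclusion hle) = 0) {c : W L} (hc : IsCoc fs M i c)
    (z : LinearMap.ker ((C fs (ModuleCat.of A N)).d (i : ℤ) ((i : ℤ) + 1)).hom)
    (hz : ι fs hu (ModuleCat.of A N) N.subtype i z.1 = c) :
    a • clsL (C fs (ModuleCat.of A N)) i z = 0 := by
  rw [← map_smul, cls_eq_zero_iff fs hu N.subtype N.injective_subtype, Submodule.range_subtype,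
    Submodule.coe_smul, map_smul, hz]
  exact smul_isBdy fs hspan hu hle i ha hc

theorem noetherian_range {M N : Submodule A L} (hle : M ≤ N) [Module.Finite A N] (i k : ℕ)
    (hkill : ∀ a ∈ maximalIdeal A ^ k, Hmap (maximalIdeal A) i (a • Submodule.inclusion hle) = 0) :
    IsNoetherian A (LinearMap.range (Tmap fs i (M := ModuleCat.of A M) (N := ModuleCat.of A N)
      (Submodule.inclusion hle))) := by
  haveI := isArtinian_cech fs hspan hu N i
  set Q := LinearMap.range (Tmap fs i (M := ModuleCat.of A M) (N := ModuleCat.of A N) (Submodule.inclusion hle))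
  haveI : IsArtinian A Q := isArtinian_of_injective Q.subtype Q.injective_subtype
  refine (isFiniteLength_iff_isNoetherian_isArtinian.1 (isFiniteLength_of_isArtinian_of_pow_smul k Q ?_)).1
  rintro a ha ⟨_, y, rfl⟩
  obtain ⟨z, rfl⟩ := clsL_surjective (C fs (ModuleCat.of A M)) (i : ℤ) y
  obtain ⟨z', h1, h2⟩ := Tmap_cls fs hu (M := ModuleCat.of A M) (M' := ModuleCat.of A N) M.subtype
    M.injective_subtype N.subtype N.injective_subtype (Submodule.inclusion hle) rfl i z
  refine Subtype.ext (Eq.trans (congrArg (fun v => a • v) h1) ?_)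
  have hc := isCoc_ι fs hu M.subtype M.injective_subtype i z
  rw [Submodule.range_subtype] at hc
  exact smul_cls_eq_zero fs hspan hu hle i (hkill a ha) hc z' h2

omit hspan [IsNoetherianRing A] [IsLocalRing A] in
theorem exists_generating_cocycles {M N : Submodule A L} (hle : M ≤ N) (i : ℕ)
    (hN : IsNoetherian A (LinearMap.range (Tmap fs i (M := ModuleCat.of A M) (N := ModuleCat.of A N)
      (Submodule.inclusion hle)))) :
    ∃ (m : ℕ) (cs : Fin m → W L), (∀ j, IsCoc fs M i (cs j)) ∧
      ∀ c, IsCoc fs M i c → ∃ r : Fin m → A, IsBdy fs N i (c - ∑ j, r j • cs j) := by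
  set g : (ModuleCat.of A M) →ₗ[A] (ModuleCat.of A N) := Submodule.inclusion hle
  haveI := hN
  obtain ⟨m, y, hy⟩ := Module.Finite.exists_fin (R := A) (M := LinearMap.range (Tmap fs i g))
  have hpre : ∀ j, ∃ z' : LinearMap.ker ((C fs (ModuleCat.of A N)).d (i : ℤ) ((i : ℤ) + 1)).hom,
      IsCoc fs M i (ι fs hu (ModuleCat.of A N) N.subtype i z'.1) ∧
        clsL (C fs (ModuleCat.of A N)) i z' = (y j).1 := fun j => by
    obtain ⟨x, hx⟩ := (y j).2
    obtain ⟨z, rfl⟩ := clsL_surjective (C fs (ModuleCat.of A M)) (i : ℤ) x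
    obtain ⟨z', h1, h2⟩ := Tmap_cls fs hu (M := ModuleCat.of A M) (M' := ModuleCat.of A N) M.subtype
      M.injective_subtype N.subtype N.injective_subtype g rfl i z
    have hc := isCoc_ι fs hu M.subtype M.injective_subtype i z
    rw [Submodule.range_subtype] at hc
    exact ⟨z', h2 ▸ hc, h1.symm.trans hx⟩
  choose zy hcy hzy using hpre
  refine ⟨m, fun j => ι fs hu (ModuleCat.of A N) N.subtype i (zy j).1, hcy, fun c hc => ?_⟩
  obtain ⟨z, hz⟩ := exists_cycle fs hu (M := ModuleCat.of A M) M.subtype M.injective_subtype i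
    (c := c) (by rw [Submodule.range_subtype]; exact hc)
  obtain ⟨z', h1, h2⟩ := Tmap_cls fs hu (M := ModuleCat.of A M) (M' := ModuleCat.of A N) M.subtype
    M.injective_subtype N.subtype N.injective_subtype g rfl i z
  have hmem : (⟨_, LinearMap.mem_range_self (Tmap fs i g) (clsL (C fs (ModuleCat.of A M)) i z)⟩ :
      LinearMap.range (Tmap fs i g)) ∈ Submodule.span A (Set.range y) := hy ▸ Submodule.mem_top
  obtain ⟨r, hr⟩ := (Submodule.mem_span_range_iff_exists_fun A).1 hmem
  refine ⟨r, ?_⟩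
  have hw : clsL (C fs (ModuleCat.of A N)) i (z' - ∑ j, r j • zy j) = 0 := by
    have h3 := congrArg Subtype.val hr
    simp only [Submodule.coe_sum, Submodule.coe_smul] at h3
    simp only [map_sub, map_sum, map_smul, hzy, h3, ← h1, sub_self]
  rw [cls_eq_zero_iff fs hu N.subtype N.injective_subtype, Submodule.range_subtype, Submodule.coe_sub,
    map_sub, h2, hz, Submodule.coe_sum, map_sum] at hw
  simp only [Submodule.coe_smul, map_smul] at hw
  exact hw

/-- a finite length image dies in a bigger finite extension -/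
theorem exists_kills_image (hne : fs ≠ []) (p : ℕ) [Fact p.Prime] [CharP L p] [IsAlgClosed L]
    (T T' : Subalgebra A L) (hle : T ≤ T') [Module.Finite A T] [Module.Finite A T'] (i k : ℕ)
    (hkill : ∀ a ∈ maximalIdeal A ^ k, Hmap (maximalIdeal A) i
      (a • Submodule.inclusion (show Subalgebra.toSubmodule T ≤ Subalgebra.toSubmodule T' from hle)) = 0) :
    ∃ (T'' : Subalgebra A L) (hle'' : T ≤ T''), Module.Finite A T'' ∧ Hmap (maximalIdeal A) i
      (Submodule.inclusion (show Subalgebra.toSubmodule T ≤ Subalgebra.toSubmodule T'' from hle'')) = 0 := by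
  haveI : Module.Finite A (Subalgebra.toSubmodule T') := ‹Module.Finite A T'›
  have hN := noetherian_range fs hspan hu (M := Subalgebra.toSubmodule T) (N := Subalgebra.toSubmodule T') hle i k hkill
  obtain ⟨m, cs, hcs, hgen⟩ := exists_generating_cocycles fs hu (M := Subalgebra.toSubmodule T)
    (N := Subalgebra.toSubmodule T') hle i hN
  have hint : Subalgebra.toSubmodule T' ≤ Subalgebra.toSubmodule (integralClosure A L) := fun x hx =>
    (Algebra.IsIntegral.isIntegral (R := A) (⟨x, hx⟩ : T')).map T'.val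
  obtain ⟨T'', hT'', hfin, hb⟩ := exists_finite_isBdy fs T' (i : ℤ) (fun j : ULift.{u} (Fin m) => cs j.down)
    fun j => kills fs hu hne p T T' hle hint i hN _ (hcs j.down)
  refine ⟨T'', hle.trans hT'', hfin, (Hmap_zero_iff_isBdy fs hspan hu _ _ _ i).2 fun c hc => ?_⟩
  obtain ⟨r, hr⟩ := hgen c hc
  have := (hr.mono (show Subalgebra.toSubmodule T' ≤ Subalgebra.toSubmodule T'' from hT'')).add
    (isBdy_sum Finset.univ _ fun j _ => (hb ⟨j⟩).smul (r j))
  rwa [sub_add_cancel] at this

end Groth.Agent.LC17.HL
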