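import Groth.Agent.LC17.HL.DualZero
import Groth.Agent.LC17.HL.KillImage
import Groth.Agent.EGA4H10.Serre

/-!
Huneke–Lyubeznik: the absolute integral closure of a regular local ring of positive characteristic
has no local cohomology below the dimension.
-/

set_option autoImplicit false

universe u

open IsLocalRing

namespace Groth.Agent.LC17.HL

open LC15

section regular

variable {A : Type u} [CommRing A] {L : Type u} [Field L] [Algebra A L]

theorem isUnit_end {S : Submonoid A} (hS : ∀ s ∈ S, algebraMap A L s ≠ 0) (s : S) :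
    IsUnit (algebraMap A (Module.End A L) (s : A)) := by
  refine (Module.End.isUnit_iff _).2 ⟨fun a b h => ?_, fun b => ⟨(algebraMap A L s)⁻¹ * b, ?_⟩⟩
  · simp only [Module.algebraMap_end_apply, Algebra.smul_def] at h
    exact mul_left_cancel₀ (hS s s.2) h
  · simp only [Module.algebraMap_end_apply, Algebra.smul_def]
    rw [← mul_assoc, mul_inv_cancel₀ (hS s s.2), one_mul]

variable (S : Submonoid A) (hS : ∀ s ∈ S, algebraMap A L s ≠ 0) [Algebra (Localization S) L]
  [IsScalarTower A (Localization S) L]

/-- a localized submodule of the field, inside the field -/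
noncomputable def θ (M : Submodule A L) : LocalizedModule S M →ₗ[Localization S] L :=
  (LocalizedModule.lift S M.subtype (isUnit_end hS)).extendScalarsOfIsLocalization S (Localization S)

theorem smul_θ_mk (M : Submodule A L) (m : M) (s : S) :
    algebraMap A L s * θ S hS M (LocalizedModule.mk m s) = m := by
  show algebraMap A L s * LocalizedModule.lift S M.subtype (isUnit_end hS) (LocalizedModule.mk m s) = m
  rw [← Algebra.smul_def, ← map_smul, LocalizedModule.smul'_mk]
  have : LocalizedModule.mk ((s : A) • m) s = LocalizedModule.mk m (1 : S) := by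
    rw [← Submonoid.smul_def, LocalizedModule.mk_cancel]
  rw [this]
  exact LinearMap.congr_fun (LocalizedModule.lift_comp S M.subtype (isUnit_end hS)) m

theorem θ_injective (M : Submodule A L) : Function.Injective (θ S hS M) := by
  refine (injective_iff_map_eq_zero _).2 fun x hx => ?_
  induction x using LocalizedModule.induction_on with | h m s => ?_
  have h := smul_θ_mk S hS M m s
  rw [hx, mul_zero] at h
  rw [show m = 0 from Subtype.ext h.symm, LocalizedModule.zero_mk]

theorem θ_map {M N : Submodule A L} (hle : M ≤ N) (x : LocalizedModule S M) :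
    θ S hS N (LocalizedModule.map S (Submodule.inclusion hle) x) = θ S hS M x := by
  induction x using LocalizedModule.induction_on with | h m s => ?_
  rw [LocalizedModule.map_mk]
  refine mul_left_cancel₀ (hS s s.2) ?_
  rw [smul_θ_mk, smul_θ_mk]
  rfl

end regular

theorem Hmap_eq_zero_of_factor {R : Type u} [CommRing R] (I : Ideal R) (j : ℕ) {M N P Q : Type u} [AddCommGroup M]
    [Module R M] [AddCommGroup N] [Module R N] [AddCommGroup P] [Module R P] [AddCommGroup Q] [Module R Q]
    (ψ : P →ₗ[R] Q) (g : N →ₗ[R] P) (φ : M →ₗ[R] N) (f : M →ₗ[R] Q) (hf : f = ψ ∘ₗ g ∘ₗ φ) (hg : Hmap I j g = 0) :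
    Hmap I j f = 0 := by
  refine LinearMap.ext fun y => ?_
  rw [hf, ← LC16.Colim.Hmap_Hmap I j ψ (g ∘ₗ φ) _ rfl y, ← LC16.Colim.Hmap_Hmap I j g φ _ rfl y, hg]
  simp

section main

variable {A : Type u} [CommRing A] [IsRegularLocalRing A] {L : Type u} [Field L] [Algebra A L]

/-- descending a killed map from a localization -/
theorem loc_step (hinj : Function.Injective (algebraMap A L)) (P : Ideal A) [P.IsPrime] {n : ℕ}
    (hn : ringKrullDim A = n) {i : ℕ} (hi : i < n) (T : Subalgebra A L) [Module.Finite A T]
    [Algebra (Localization.AtPrime P) L] [IsScalarTower A (Localization.AtPrime P) L]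
    [IsRegularLocalRing (Localization.AtPrime P)] {h : ℕ} (hh : ringKrullDim (Localization.AtPrime P) = h)
    (IH : ∀ (U : Subalgebra (Localization.AtPrime P) L) [Module.Finite (Localization.AtPrime P) U] (j : ℕ), j < h →
      ∃ (U' : Subalgebra (Localization.AtPrime P) L) (hle : U ≤ U'), Module.Finite (Localization.AtPrime P) U' ∧
        Hmap (maximalIdeal (Localization.AtPrime P)) j (Submodule.inclusion
          (show Subalgebra.toSubmodule U ≤ Subalgebra.toSubmodule U' from hle)) = 0) :
    ∃ (T' : Subalgebra A L) (hle : T ≤ T'), Module.Finite A T' ∧ ∃ s ∉ P, Hmap (maximalIdeal A) i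
      (s • Submodule.inclusion (show Subalgebra.toSubmodule T ≤ Subalgebra.toSubmodule T' from hle)) = 0 := by
  classical
  let S := P.primeCompl
  have hS : ∀ s ∈ S, algebraMap A L s ≠ 0 := fun s hs h0 =>
    hs ((hinj (h0.trans (map_zero _).symm) : s = 0) ▸ P.zero_mem)
  have hik : n - (n - i) = i := by omega
  by_cases hkh : n - i ≤ h
  swap
  · haveI : Module.Finite A (Subalgebra.toSubmodule T) := ‹Module.Finite A T›
    obtain ⟨s, hs, h0⟩ := exists_smul_Hmap_eq_zero P hn hh (n - i) (by omega) (by omega)
      (Subalgebra.toSubmodule T) (Subalgebra.toSubmodule T) (Submodule.inclusion le_rfl) (fun h' => absurd h' hkh)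
    rw [hik] at h0
    exact ⟨T, le_rfl, inferInstance, s, hs, h0⟩
  let AP := Localization.AtPrime P
  obtain ⟨G, hG⟩ : (Subalgebra.toSubmodule T).FG := Module.Finite.iff_fg.1 ‹Module.Finite A T›
  let U := Algebra.adjoin AP (G : Set L)
  have hGint : ∀ x ∈ (G : Set L), IsIntegral AP x := fun x hx => by
    have hxT : x ∈ T := show x ∈ Subalgebra.toSubmodule T from hG ▸ Submodule.subset_span hx
    exact ((Algebra.IsIntegral.isIntegral (R := A) (⟨x, hxT⟩ : T)).map T.val).tower_top
  haveI : Module.Finite AP U := Module.Finite.iff_fg.2 (fg_adjoin_of_finite G.finite_toSet hGint)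
  obtain ⟨U', hUU, hU'fin, hU'⟩ := IH U (h - (n - i)) (by omega)
  obtain ⟨G', hG'⟩ : (Subalgebra.toSubmodule U').FG := Module.Finite.iff_fg.1 hU'fin
  have hsc : ∀ x ∈ G', ∃ m : S, IsIntegral A ((m : A) • x) := fun x hx => by
    have hxU : x ∈ U' := show x ∈ Subalgebra.toSubmodule U' from hG' ▸ Submodule.subset_span hx
    haveI := hU'fin
    have hint : IsIntegral AP x := (Algebra.IsIntegral.isIntegral (R := AP) (⟨x, hxU⟩ : U')).map U'.val
    obtain ⟨m, hm⟩ := IsIntegral.exists_multiple_integral_of_isLocalization S x hint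
    exact ⟨m, hm⟩
  choose! m hm using hsc
  let G'' : Finset L := G'.image fun x => (m x : A) • x
  have hG''int : ∀ x ∈ (G'' : Set L), IsIntegral A x := fun x hx => by
    obtain ⟨y, hy, rfl⟩ := Finset.mem_image.1 hx
    exact hm y hy
  haveI : Module.Finite A (Algebra.adjoin A (G'' : Set L)) :=
    Module.Finite.iff_fg.2 (fg_adjoin_of_finite G''.finite_toSet hG''int)
  let T' := T ⊔ Algebra.adjoin A (G'' : Set L)
  haveI hT'fin : Module.Finite A T' := Subalgebra.finite_sup T _
  let ST := Subalgebra.toSubmodule T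
  let ST' := Subalgebra.toSubmodule T'
  haveI : Module.Finite A ST := ‹Module.Finite A T›
  haveI : Module.Finite A ST' := hT'fin
  have hle : ST ≤ ST' := (le_sup_left : T ≤ T')
  have hTU : ∀ x, θ S hS ST x ∈ U := fun x => by
    induction x using LocalizedModule.induction_on with | h a s => ?_
    have ha : (a : L) ∈ U := by
      have hle' : Submodule.span A (G : Set L) ≤ (Subalgebra.toSubmodule U).restrictScalars A :=
        Submodule.span_le.2 fun y hy => Algebra.subset_adjoin hy
      exact hle' (hG.symm ▸ a.2)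
    rw [← smul_θ_mk S hS ST a s, IsScalarTower.algebraMap_apply A AP L, ← Algebra.smul_def] at ha
    have hu : IsUnit (algebraMap A AP (s : A)) := IsLocalization.map_units AP s
    obtain ⟨w, hw⟩ := hu
    have := U.smul_mem ha ((w⁻¹ : APˣ) : AP)
    rwa [← mul_smul, ← hw, Units.inv_mul, one_smul] at this
  have hU'range : Subalgebra.toSubmodule U' ≤ LinearMap.range (θ S hS ST') := by
    rw [← hG']
    refine Submodule.span_le.2 fun x hx => ?_
    have hmem : (m x : A) • x ∈ ST' := (le_sup_right : Algebra.adjoin A (G'' : Set L) ≤ T')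
      (Algebra.subset_adjoin (Finset.mem_image.2 ⟨x, hx, rfl⟩))
    refine ⟨LocalizedModule.mk ⟨_, hmem⟩ (m x), mul_left_cancel₀ (hS _ (m x).2) ?_⟩
    rw [smul_θ_mk, ← Algebra.smul_def]
  let e := LinearEquiv.ofInjective _ (θ_injective S hS ST')
  let φ : LocalizedModule S ST →ₗ[AP] Subalgebra.toSubmodule U := LinearMap.codRestrict _ (θ S hS ST) hTU
  let ψ : Subalgebra.toSubmodule U' →ₗ[AP] LocalizedModule S ST' :=
    e.symm.toLinearMap ∘ₗ Submodule.inclusion hU'range
  have hfac : LocalizedModule.map S (Submodule.inclusion hle) =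
      ψ ∘ₗ Submodule.inclusion (show Subalgebra.toSubmodule U ≤ Subalgebra.toSubmodule U' from hUU) ∘ₗ φ := by
    refine LinearMap.ext fun x => θ_injective S hS ST' ?_
    rw [θ_map]
    have : ∀ z : LinearMap.range (θ S hS ST'), θ S hS ST' (e.symm z) = z := fun z =>
      congrArg Subtype.val (e.apply_symm_apply z)
    exact (this ⟨θ S hS ST x, hU'range (hUU (hTU x))⟩).symm
  obtain ⟨s, hs, h0⟩ := exists_smul_Hmap_eq_zero P hn hh (n - i) (by omega) (by omega) ST ST'
    (Submodule.inclusion hle) fun _ => by
      exact Hmap_eq_zero_of_factor _ _ ψ _ φ _ hfac hU'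
  rw [hik] at h0
  exact ⟨T', le_sup_left, hT'fin, s, hs, h0⟩

theorem exists_ideal_killing {T T' : Subalgebra A L} (hle : T ≤ T') (i : ℕ) :
    ∃ J : Ideal A, ∀ a, a ∈ J ↔ Hmap (maximalIdeal A) i
      (a • Submodule.inclusion (show Subalgebra.toSubmodule T ≤ Subalgebra.toSubmodule T' from hle)) = 0 :=
  ⟨LinearMap.ker (LinearMap.toSpanSingleton A _ (Hmap (maximalIdeal A) i
    (Submodule.inclusion (show Subalgebra.toSubmodule T ≤ Subalgebra.toSubmodule T' from hle)))), fun a => by
    rw [LinearMap.mem_ker, LinearMap.toSpanSingleton_apply, Hmap_smul]⟩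

theorem killing_mono {T T' T'' : Subalgebra A L} (h : T ≤ T') (h' : T' ≤ T'') (i : ℕ) (a : A)
    (ha : Hmap (maximalIdeal A) i
        (a • Submodule.inclusion (show Subalgebra.toSubmodule T ≤ Subalgebra.toSubmodule T' from h)) = 0 ∨
      Hmap (maximalIdeal A) i
        (a • Submodule.inclusion (show Subalgebra.toSubmodule T' ≤ Subalgebra.toSubmodule T'' from h')) = 0) :
    Hmap (maximalIdeal A) i
      (a • Submodule.inclusion (show Subalgebra.toSubmodule T ≤ Subalgebra.toSubmodule T'' from h.trans h')) = 0 := by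
  let u := Submodule.inclusion (show Subalgebra.toSubmodule T ≤ Subalgebra.toSubmodule T' from h)
  let v := Submodule.inclusion (show Subalgebra.toSubmodule T' ≤ Subalgebra.toSubmodule T'' from h')
  refine LinearMap.ext fun y => ?_
  rcases ha with ha | ha
  · rw [← LC16.Colim.Hmap_Hmap _ _ v (a • u) _ (by rw [LinearMap.comp_smul]; rfl), ha]
    simp
  · rw [← LC16.Colim.Hmap_Hmap _ _ (a • v) u _ (by rw [LinearMap.smul_comp]; rfl), ha]
    simp

end main

theorem regular_main (p : ℕ) [Fact p.Prime] : ∀ (n : ℕ) (A : Type u) [CommRing A] [IsRegularLocalRing A]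
    (L : Type u) [Field L] [IsAlgClosed L] [CharP L p] [Algebra A L] (_ : Function.Injective (algebraMap A L)),
    ringKrullDim A = n → ∀ (T : Subalgebra A L) [Module.Finite A T] (i : ℕ), i < n →
      ∃ (T' : Subalgebra A L) (hle : T ≤ T'), Module.Finite A T' ∧ Hmap (maximalIdeal A) i
        (Submodule.inclusion (show Subalgebra.toSubmodule T ≤ Subalgebra.toSubmodule T' from hle)) = 0 := by
  intro n
  induction n using Nat.strong_induction_on with
  | _ n IH =>
    intro A _ _ L _ _ _ _ hinj hn T _ i hi
    classical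
    haveI := CAlg1.isDomain_regular A
    let 𝒮 : Set (Ideal A) := {J | ∃ (T' : Subalgebra A L) (hle : T ≤ T'), Module.Finite A T' ∧
      ∀ a, a ∈ J ↔ Hmap (maximalIdeal A) i
        (a • Submodule.inclusion (show Subalgebra.toSubmodule T ≤ Subalgebra.toSubmodule T' from hle)) = 0}
    have hne : 𝒮.Nonempty := by
      obtain ⟨J, hJ⟩ := exists_ideal_killing (le_refl T) i
      exact ⟨J, T, le_rfl, inferInstance, hJ⟩
    obtain ⟨J, ⟨T', hle, hfin, hJ⟩, hmax⟩ := set_has_maximal_iff_noetherian.2 inferInstance 𝒮 hne
    haveI := hfin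
    have hrad : maximalIdeal A ≤ Ideal.radical J := by
      rw [Ideal.radical_eq_sInf]
      refine le_sInf fun P ⟨hJP, hPp⟩ => ?_
      by_contra hPm
      haveI : P.IsPrime := hPp
      haveI := EGA4H10.regular_localization A P
      let AP := Localization.AtPrime P
      have hlt : P.height < (maximalIdeal A).height :=
        Ideal.height_strict_mono_of_isPrime_of_isPrime
          (lt_of_le_of_ne (IsLocalRing.le_maximalIdeal hPp.ne_top) fun e => hPm e.ge)
      have hmh : (maximalIdeal A).height = (n : ℕ∞) := by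
        have := IsLocalRing.maximalIdeal_height_eq_ringKrullDim (R := A)
        rw [hn] at this
        exact WithBot.coe_inj.1 this
      rw [hmh] at hlt
      obtain ⟨h, hh⟩ := ENat.ne_top_iff_exists.1 (ne_top_of_lt hlt)
      have hdim : ringKrullDim AP = h := by
        rw [IsLocalization.AtPrime.ringKrullDim_eq_height P AP, ← hh]; rfl
      rw [← hh] at hlt
      have hhn : h < n := by exact_mod_cast hlt
      letI : Algebra AP L := (IsLocalization.lift (M := P.primeCompl) (S := AP) (g := algebraMap A L)
        (fun y => IsUnit.mk0 _ fun h0 => y.2 ((hinj (h0.trans (map_zero _).symm) : (y : A) = 0) ▸ P.zero_mem))).toAlgebra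
      haveI : IsScalarTower A AP L := IsScalarTower.of_algebraMap_eq fun a => (IsLocalization.lift_eq _ a).symm
      have hinjP : Function.Injective (algebraMap AP L) := by
        refine (IsLocalization.lift_injective_iff _).2 fun x y => ?_
        rw [(IsLocalization.injective AP P.primeCompl_le_nonZeroDivisors).eq_iff, hinj.eq_iff]
      obtain ⟨T'', hle', hfin', s, hs, h0⟩ := loc_step hinj P hn hi T' hdim fun U _ j hj =>
        IH h hhn AP L hinjP hdim U j hj
      obtain ⟨J', hJ'⟩ := exists_ideal_killing (hle.trans hle') i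
      have hJJ' : J ≤ J' := fun a ha => (hJ' a).2 (killing_mono hle hle' i a (Or.inl ((hJ a).1 ha)))
      have hsJ' : s ∈ J' := (hJ' s).2 (killing_mono hle hle' i s (Or.inr h0))
      have hmax' := hmax J' ⟨T'', hle.trans hle', hfin', hJ'⟩
      rw [lt_iff_le_not_ge, not_and_not_right] at hmax'
      exact hs (hJP (hmax' hJJ' hsJ'))
    obtain ⟨k, hk⟩ := Ideal.exists_pow_le_of_le_radical_of_fg hrad (IsNoetherian.noetherian _)
    obtain ⟨G, hG⟩ : (maximalIdeal A).FG := IsNoetherian.noetherian _
    let G' := G.filter (fun x => x ≠ 0)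
    have hspan : Ideal.span {x | x ∈ G'.toList} = maximalIdeal A := by
      rw [← hG]
      have h1 : {x | x ∈ G'.toList} = (G : Set A) \ {0} := by
        ext x; simp [G']
      rw [h1]
      exact Submodule.span_sdiff_singleton_zero
    have hu : ∀ f ∈ G'.toList, algebraMap A L f ≠ 0 := fun f hf h0 => by
      have := (Finset.mem_filter.1 (Finset.mem_toList.1 hf)).2
      exact this (hinj (h0.trans (map_zero _).symm))
    have hne' : G'.toList ≠ [] := fun h => by
      rw [h] at hspan
      have hbot : maximalIdeal A = ⊥ := by rw [← hspan]; simp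
      have : ringKrullDim A = 0 := by
        rw [← IsLocalRing.maximalIdeal_height_eq_ringKrullDim, hbot, Ideal.height_bot]; rfl
      rw [hn] at this
      have : n = 0 := by exact_mod_cast this
      omega
    exact exists_kills_image G'.toList hspan hu hne' p T T' hle i k fun a ha => (hJ a).1 (hk ha)

end Groth.Agent.LC17.HL
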